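import Groth.Agent.Lib.Depth.Hartogs
import Mathlib.AlgebraicGeometry.AffineScheme
import Mathlib.AlgebraicGeometry.Restrict

/-!
Morphisms to an affine scheme extend uniquely across points of depth `≥ 2`.
-/

universe u

open CategoryTheory AlgebraicGeometry TopologicalSpace Opposite

namespace GrothLib.Depth

variable {X : Scheme.{u}} [IsLocallyNoetherian X]

theorem res_bijective_of_eq {U : X.Opens} (hU : DepthTwoOutside U) {V W : X.Opens} (h : W ≤ V)
    (hW : W = V ⊓ U) : Function.Bijective (res (X := X) h) := by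
  subst hW
  exact res_bijective hU V

theorem isIso_ι_appTop {U : X.Opens} (hU : DepthTwoOutside U) : IsIso U.ι.appTop := by
  rw [ConcreteCategory.isIso_iff_bijective, Scheme.Opens.ι_appTop]
  exact res_bijective_of_eq hU le_top (by rw [Scheme.Opens.ι_image_top, top_inf_eq])

theorem existsUnique_extension {Y : Scheme.{u}} [IsAffine Y] {U : X.Opens} (hU : DepthTwoOutside U)
    (f : (U : Scheme.{u}) ⟶ Y) : ∃! g : X ⟶ Y, U.ι ≫ g = f := by
  have := isIso_ι_appTop hU
  refine ⟨X.toSpecΓ ≫ Spec.map (f.appTop ≫ inv U.ι.appTop) ≫ Y.isoSpec.inv, ?_, fun g hg => ?_⟩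
  · beta_reduce
    rw [Scheme.toSpecΓ_naturality_assoc, ← Spec.map_comp_assoc, Category.assoc, IsIso.inv_hom_id,
      Category.comp_id, ← Scheme.toSpecΓ_naturality_assoc]
    simp [Scheme.isoSpec]
  · subst hg
    rw [Scheme.Hom.comp_appTop, Category.assoc, IsIso.hom_inv_id, Category.comp_id,
      ← Scheme.toSpecΓ_naturality_assoc]
    simp [Scheme.isoSpec]

end GrothLib.Depth
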