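import Groth.Agent.Lib.Depth.Transfer
import Mathlib.RingTheory.Ideal.AssociatedPrime.Finiteness
import Mathlib.RingTheory.Localization.BaseChange

/-! The `I`-depth is the infimum of the local depths. -/

universe u

open CategoryTheory TensorProduct RingTheory.Sequence

namespace GrothLib.Depth

variable {A : Type u} [CommRing A] [IsNoetherianRing A] {M : Type u} [AddCommGroup M] [Module A M]
  [Module.Finite A M]

omit [IsNoetherianRing A] [Module.Finite A M] in
theorem idealDepth_mono {I J : Ideal A} (h : I ≤ J) :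
    LocCoh.idealDepth I M ≤ LocCoh.idealDepth J M := by
  by_cases hJ : J • (⊤ : Submodule A M) = ⊤
  · exact (le_top).trans (le_of_eq (by rw [LocCoh.idealDepth, if_pos hJ]))
  have hI : I • (⊤ : Submodule A M) ≠ ⊤ := fun hI =>
    hJ (top_le_iff.1 (hI.ge.trans (Submodule.smul_mono_left h)))
  refine le_of_forall_coe_le fun n hn => ?_
  obtain ⟨rs, h1, h2, h3⟩ := (le_idealDepth_iff_exists I hI n).1 hn
  exact (le_idealDepth_iff_exists J hJ n).2 ⟨rs, h1, fun r hr => h (h2 r hr), h3⟩

theorem idealDepth_le_localization (I : Ideal A) (p : Ideal A) [p.IsPrime] (hp : I ≤ p) :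
    LocCoh.idealDepth I M ≤
      LocCoh.depth (Localization.AtPrime p) (LocalizedModule p.primeCompl M) := by
  haveI : IsNoetherianRing (Localization.AtPrime p) :=
    IsLocalization.isNoetherianRing p.primeCompl _ inferInstance
  refine (idealDepth_le_baseChange (B := Localization.AtPrime p) I M).trans ?_
  refine (idealDepth_mono ?_).trans (le_of_eq (idealDepth_eq_of_equiv _
    (LocalizedModule.equivTensorProduct p.primeCompl M).symm))
  rw [← Localization.AtPrime.map_eq_maximalIdeal]
  exact Ideal.map_mono hp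

theorem le_idealDepth_baseChange_quotient {B : Type u} [CommRing B] [Algebra A B]
    [IsNoetherianRing B] [Module.Flat A B] (J : Ideal B) (rs : List A) :
    ∀ (M : Type u) [AddCommGroup M] [Module A M] [Module.Finite A M], IsWeaklyRegular M rs →
      ∀ k : ℕ, ((k + rs.length : ℕ) : ℕ∞) ≤ LocCoh.idealDepth J (B ⊗[A] M) →
        (k : ℕ∞) ≤ LocCoh.idealDepth J (B ⊗[A] (M ⧸ (Ideal.ofList rs • ⊤ : Submodule A M))) := by
  induction rs with
  | nil =>
    intro M _ _ _ _ k hk
    refine (show (k : ℕ∞) ≤ LocCoh.idealDepth J (B ⊗[A] M) by simpa using hk).trans (le_of_eq ?_)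
    exact idealDepth_eq_of_equiv J (LinearEquiv.baseChange A B _ _ (Submodule.quotEquivOfEqBot
      (Ideal.ofList ([] : List A) • ⊤ : Submodule A M)
      (by rw [Ideal.ofList_nil, Submodule.bot_smul])).symm)
  | cons r rs ih =>
    intro M _ _ _ h k hk
    rw [isWeaklyRegular_cons_iff] at h
    refine (ih (QuotSMulTop r M) h.2 k ?_).trans (le_of_eq (idealDepth_eq_of_equiv J
      (LinearEquiv.baseChange A B _ _
        (Submodule.quotOfListConsSMulTopEquivQuotSMulTopInner M r rs).symm)))
    let f : M →ₗ[A] M := LinearMap.lsmul A M r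
    let g : M →ₗ[A] QuotSMulTop r M := Submodule.mkQ _
    have hfg : Function.Exact f g := by
      intro x
      rw [Submodule.mkQ_apply, Submodule.Quotient.mk_eq_zero,
        Submodule.mem_smul_pointwise_iff_exists]
      exact ⟨fun ⟨y, _, hy⟩ => ⟨y, hy⟩, fun ⟨y, hy⟩ => ⟨y, Submodule.mem_top, hy⟩⟩
    have hex := lTensor_exact B hfg (Submodule.mkQ_surjective _)
    have hS : (ShortComplex.mk (X₁ := ModuleCat.of B (B ⊗[A] M)) (X₂ := ModuleCat.of B (B ⊗[A] M))
        (X₃ := ModuleCat.of B (B ⊗[A] QuotSMulTop r M))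
        (ModuleCat.ofHom (f.baseChange B)) (ModuleCat.ofHom (g.baseChange B))
        (ModuleCat.hom_ext (LinearMap.ext fun x => (hex _).2 ⟨x, rfl⟩))).ShortExact :=
      { exact := (ShortComplex.moduleCat_exact_iff _).2 fun x hx => (hex x).1 hx
        mono_f := (ModuleCat.mono_iff_injective _).2
          (Module.Flat.lTensor_preserves_injective_linearMap (M := B) f h.1)
        epi_g := (ModuleCat.epi_iff_surjective _).2
          (LinearMap.lTensor_surjective B (Submodule.mkQ_surjective _)) }
    rw [le_idealDepth_iff_H] at hk ⊢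
    intro i hi
    exact GrothLib.LC.subsingleton₃ J hS i
      (hk i (by simp only [List.length_cons]; omega))
      (hk (i + 1) (by simp only [List.length_cons]; omega))

theorem exists_depth_localization_le (I : Ideal A) (n : ℕ) (hn : LocCoh.idealDepth I M = n) :
    ∃ p : PrimeSpectrum A, I ≤ p.asIdeal ∧
      LocCoh.depth (Localization.AtPrime p.asIdeal) (LocalizedModule p.asIdeal.primeCompl M) ≤ n := by
  classical
  have hIM : I • (⊤ : Submodule A M) ≠ ⊤ := by
    intro h
    rw [LocCoh.idealDepth, if_pos h] at hn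
    exact ENat.natCast_ne_top n hn.symm
  obtain ⟨rs, hlen, hmem, hreg⟩ := (le_idealDepth_iff_exists I hIM n).1 hn.ge
  subst hlen
  let M' := M ⧸ (Ideal.ofList rs • ⊤ : Submodule A M)
  have hsub : (I : Set A) ⊆ ⋃ p ∈ associatedPrimes A M', (p : Set A) := by
    intro r hr
    rw [biUnion_associatedPrimes_eq_zero_divisors]
    by_contra hzd
    have hr' : IsSMulRegular M' r := by
      rw [isSMulRegular_iff_right_eq_zero_of_smul]
      exact fun x hx => not_not.1 fun hx0 => hzd ⟨x, hx0, hx⟩
    have h1 : ((rs.length + 1 : ℕ) : ℕ∞) ≤ LocCoh.idealDepth I M := by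
      refine (le_idealDepth_iff_exists I hIM _).2 ⟨rs ++ [r], by simp, ?_, ?_⟩
      · intro s hs
        rcases List.mem_append.1 hs with hs | hs
        · exact hmem s hs
        · rw [List.mem_singleton.1 hs]; exact hr
      · rw [isWeaklyRegular_append_iff, isWeaklyRegular_singleton_iff]
        exact ⟨hreg, hr'⟩
    rw [hn] at h1
    exact Nat.not_succ_le_self rs.length (by exact_mod_cast h1)
  obtain ⟨p, hp, hIp⟩ : ∃ p ∈ associatedPrimes A M', I ≤ p := by
    have hfin := associatedPrimes.finite A M'
    obtain ⟨x, hx⟩ : ∃ p, p ∈ associatedPrimes A M' := by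
      obtain ⟨p, hp, -⟩ := Set.mem_iUnion₂.1 (hsub I.zero_mem)
      exact ⟨p, hp⟩
    rw [← hfin.coe_toFinset] at hsub
    obtain ⟨p, hp, hle⟩ := (Ideal.subset_union_prime x x
      (fun q hq _ _ => (hfin.mem_toFinset.1 hq).isPrime)).1 hsub
    exact ⟨p, hfin.mem_toFinset.1 hp, hle⟩
  have := hp.isPrime
  haveI : IsNoetherianRing (Localization.AtPrime p) :=
    IsLocalization.isNoetherianRing p.primeCompl _ inferInstance
  refine ⟨⟨p, hp.isPrime⟩, hIp, ?_⟩
  rw [LocCoh.depth, idealDepth_eq_of_equiv _ (LocalizedModule.equivTensorProduct p.primeCompl M)]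
  by_contra hlt
  have h1 : ((1 + rs.length : ℕ) : ℕ∞) ≤ LocCoh.idealDepth
      (IsLocalRing.maximalIdeal (Localization.AtPrime p)) (Localization.AtPrime p ⊗[A] M) := by
    rw [Nat.add_comm]
    exact_mod_cast Order.add_one_le_of_lt (not_le.1 hlt)
  have h2 := le_idealDepth_baseChange_quotient _ rs M hreg 1 h1
  rw [← idealDepth_eq_of_equiv _ (LocalizedModule.equivTensorProduct p.primeCompl M'),
    le_idealDepth_iff_ext] at h2
  obtain ⟨hp', x, hx⟩ := (isAssociatedPrime_iff_exists_injective_linearMap p M').1 hp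
  let g := LinearMap.toSpanSingleton (Localization.AtPrime p) (LocalizedModule p.primeCompl M')
    (LocalizedModule.mkLinearMap p.primeCompl M' (x (Ideal.Quotient.mk p 1)))
  have hg : IsLocalRing.maximalIdeal (Localization.AtPrime p) ≤ LinearMap.ker g := by
    rw [← Localization.AtPrime.map_eq_maximalIdeal, Ideal.map_le_iff_le_comap]
    intro a ha
    show g (algebraMap A _ a) = 0
    rw [LinearMap.toSpanSingleton_apply, algebraMap_smul, ← map_smul, ← map_smul,
      show a • Ideal.Quotient.mk p 1 = 0 from (Submodule.Quotient.mk_eq_zero p).2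
        (by simpa using ha), map_zero, map_zero]
  let φ : ModuleCat.of (Localization.AtPrime p)
      (Localization.AtPrime p ⧸ IsLocalRing.maximalIdeal (Localization.AtPrime p)) ⟶
      ModuleCat.of (Localization.AtPrime p) (LocalizedModule p.primeCompl M') :=
    ModuleCat.ofHom ((IsLocalRing.maximalIdeal (Localization.AtPrime p)).liftQ g hg)
  have hφ : φ = 0 := by
    have := h2 0 Nat.one_pos
    exact Abelian.Ext.addEquiv₀.symm.injective (Subsingleton.elim _ _)
  have h0 : LocalizedModule.mkLinearMap p.primeCompl M' (x (Ideal.Quotient.mk p 1)) = 0 :=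
    (one_smul (Localization.AtPrime p) _).symm.trans (ConcreteCategory.congr_hom hφ
      (Ideal.Quotient.mk (IsLocalRing.maximalIdeal (Localization.AtPrime p)) 1))
  obtain ⟨c, hc⟩ := (IsLocalizedModule.eq_zero_iff p.primeCompl _).1 h0
  rw [Submonoid.smul_def, ← map_smul, ← x.map_zero] at hc
  refine c.2 ?_
  have := (Submodule.Quotient.mk_eq_zero p).1 (hx hc)
  simpa using this

end GrothLib.Depth
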