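import Groth.Agent.Lib.Depth.Basic
import Mathlib.RingTheory.Regular.Category

/-! Depth drops by one modulo a regular element. -/

universe u

open CategoryTheory Abelian RingTheory.Sequence

namespace GrothLib.Depth

variable {R : Type u} [CommRing R] (I : Ideal R) {M : Type u} [AddCommGroup M] [Module R M]

theorem smul_ext_quotient_eq_zero {x : R} (hx : x ∈ I) {N : ModuleCat.{u} R} {i : ℕ}
    (e : Ext (ModuleCat.of R (R ⧸ I)) N i) : x • e = 0 := by
  have h : x • 𝟙 (ModuleCat.of R (R ⧸ I)) = 0 := ModuleCat.hom_ext (Submodule.linearMap_qext _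
    (LinearMap.ext fun y => (Submodule.Quotient.mk_eq_zero _).2 (Ideal.mul_mem_right y _ hx)))
  rw [GrothLib.LC.smul_eq_mk₀_comp, h, Ext.mk₀_zero, Ext.zero_comp]

theorem smulShortComplex_f (M : ModuleCat.{u} R) (x : R) :
    (M.smulShortComplex x).f = x • 𝟙 M :=
  ModuleCat.hom_ext (LinearMap.ext fun _ => rfl)

theorem comp_smulShortComplex_f {x : R} (hx : x ∈ I) {i : ℕ}
    (e : Ext (ModuleCat.of R (R ⧸ I)) (ModuleCat.of R M) i) :
    e.comp (Ext.mk₀ ((ModuleCat.of R M).smulShortComplex x).f) (add_zero i) = 0 := by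
  rw [smulShortComplex_f]
  exact (Ext.smul_eq_comp_mk₀ e x).symm.trans (smul_ext_quotient_eq_zero I hx e)

theorem forall_ext_quotSMulTop_iff {x : R} (hx : x ∈ I) (hreg : IsSMulRegular M x) (n : ℕ) :
    (∀ i < n, Subsingleton (Ext (ModuleCat.of R (R ⧸ I)) (ModuleCat.of R (QuotSMulTop x M)) i)) ↔
      ∀ i < n + 1, Subsingleton (Ext (ModuleCat.of R (R ⧸ I)) (ModuleCat.of R M) i) := by
  have hS := IsSMulRegular.smulShortComplex_shortExact (M := ModuleCat.of R M) hreg
  constructor
  · intro h i hi
    refine subsingleton_of_forall_eq 0 fun e => ?_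
    rcases i with - | j
    · have he := comp_smulShortComplex_f I hx e
      have : Mono ((ModuleCat.of R M).smulShortComplex x).f := hS.mono_f
      exact (injective_iff_map_eq_zero _).1
        (Ext.postcomp_mk₀_injective_of_mono _ ((ModuleCat.of R M).smulShortComplex x).f) e he
    · obtain ⟨y, rfl⟩ := Ext.covariant_sequence_exact₁ _ hS e (comp_smulShortComplex_f I hx e) rfl
      have := h j (by omega)
      rw [@Subsingleton.elim _ this y 0]
      exact Ext.zero_comp (ModuleCat.of R (R ⧸ I)) _ _ _ _
  · intro h i hi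
    refine subsingleton_of_forall_eq 0 fun e => ?_
    obtain ⟨y, rfl⟩ := Ext.covariant_sequence_exact₃ _ hS e rfl
      (@Subsingleton.elim _ (h (i + 1) (by omega)) _ _)
    rw [@Subsingleton.elim _ (h i (by omega)) y 0]
    exact Ext.zero_comp (ModuleCat.of R (R ⧸ I)) _ _ _ _

variable [IsNoetherianRing R] [Module.Finite R M]

theorem idealDepth_quotSMulTop_add_one {x : R} (hx : x ∈ I) (hreg : IsSMulRegular M x) :
    LocCoh.idealDepth I (QuotSMulTop x M) + 1 = LocCoh.idealDepth I M := by
  have key : ∀ n : ℕ, (n : ℕ∞) ≤ LocCoh.idealDepth I (QuotSMulTop x M) ↔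
      ((n + 1 : ℕ) : ℕ∞) ≤ LocCoh.idealDepth I M := fun n => by
    rw [le_idealDepth_iff_ext, le_idealDepth_iff_ext, forall_ext_quotSMulTop_iff I hx hreg]
  have h1 : (1 : ℕ∞) ≤ LocCoh.idealDepth I M := by exact_mod_cast (key 0).1 zero_le
  generalize LocCoh.idealDepth I (QuotSMulTop x M) = a at key ⊢
  generalize LocCoh.idealDepth I M = b at key h1 ⊢
  refine le_antisymm ?_ ?_
  · induction a using ENat.recTopCoe with
    | top =>
      refine (top_add _).le.trans (le_of_forall_coe_le fun n _ => ?_)
      exact le_trans (by exact_mod_cast Nat.le_succ n) ((key n).1 le_top)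
    | coe m => exact_mod_cast (key m).1 le_rfl
  · refine le_of_forall_coe_le fun n hn => ?_
    rcases n with - | m
    · exact zero_le
    · have := (key m).2 hn
      exact (Nat.cast_succ m).le.trans (add_le_add_left this 1)

theorem idealDepth_ofList (rs : List R) (hmem : ∀ r ∈ rs, r ∈ I) :
    ∀ (M : Type u) [AddCommGroup M] [Module R M] [Module.Finite R M], IsWeaklyRegular M rs →
      LocCoh.idealDepth I M =
        LocCoh.idealDepth I (M ⧸ (Ideal.ofList rs • ⊤ : Submodule R M)) + rs.length := by
  induction rs with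
  | nil =>
    intro M _ _ _ _
    refine le_of_forall_coe_le (fun n hn => ?_) |>.antisymm (le_of_forall_coe_le fun n hn => ?_)
    all_goals
      simp only [List.length_nil, Nat.cast_zero, add_zero] at hn ⊢
      rw [le_idealDepth_iff_H] at hn ⊢
      intro i hi
      let e : (M ⧸ (Ideal.ofList ([] : List R) • ⊤ : Submodule R M)) ≃ₗ[R] M :=
        Submodule.quotEquivOfEqBot _ (by rw [Ideal.ofList_nil, Submodule.bot_smul])
      let f := ((localCohomology I i).mapIso e.toModuleIso).toLinearEquiv.toEquiv
      have := hn i hi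
      first
        | exact f.subsingleton
        | exact f.symm.subsingleton
  | cons r rs ih =>
    intro M _ _ _ h
    rw [isWeaklyRegular_cons_iff] at h
    rw [← idealDepth_quotSMulTop_add_one I (hmem r List.mem_cons_self) h.1,
      ih (fun s hs => hmem s (List.mem_cons_of_mem r hs)) (QuotSMulTop r M) h.2, List.length_cons,
      Nat.cast_succ, add_assoc]
    congr 1
    refine le_of_forall_coe_le (fun n hn => ?_) |>.antisymm (le_of_forall_coe_le fun n hn => ?_)
    all_goals
      rw [le_idealDepth_iff_H] at hn ⊢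
      intro i hi
      let f := ((localCohomology I i).mapIso
        (Submodule.quotOfListConsSMulTopEquivQuotSMulTopInner M r rs).toModuleIso).toLinearEquiv.toEquiv
      have := hn i hi
      first
        | exact f.subsingleton
        | exact f.symm.subsingleton

end GrothLib.Depth
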