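import Groth.Agent.Lib.Depth.Reduce
import Groth.Agent.Lib.LC.FlatBC
import Mathlib.RingTheory.Regular.IsSMulRegular

/-! Depth under base change. -/

universe u

open CategoryTheory TensorProduct

namespace GrothLib.Depth

variable {A B : Type u} [CommRing A] [CommRing B] [Algebra A B] [IsNoetherianRing A]
  [IsNoetherianRing B] (I : Ideal A)

theorem idealDepth_map_eq (M : Type u) [AddCommGroup M] [Module B M] [Module A M]
    [IsScalarTower A B M] [Module.Finite B M] [Module.Finite A M] :
    LocCoh.idealDepth (I.map (algebraMap A B)) M = LocCoh.idealDepth I M := by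
  have key : ∀ n : ℕ, (n : ℕ∞) ≤ LocCoh.idealDepth (I.map (algebraMap A B)) M ↔
      (n : ℕ∞) ≤ LocCoh.idealDepth I M := fun n => by
    rw [le_idealDepth_iff_H, le_idealDepth_iff_H]
    exact forall₂_congr fun i _ => GrothLib.LC.subsingleton_map_iff I i M
  exact (le_of_forall_coe_le fun n hn => (key n).1 hn).antisymm
    (le_of_forall_coe_le fun n hn => (key n).2 hn)

theorem idealDepth_le_baseChange [Module.Flat A B] (M : Type u) [AddCommGroup M] [Module A M]
    [Module.Finite A M] :
    LocCoh.idealDepth I M ≤ LocCoh.idealDepth (I.map (algebraMap A B)) (B ⊗[A] M) := by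
  refine le_of_forall_coe_le fun n hn => ?_
  rw [le_idealDepth_iff_H] at hn ⊢
  intro i hi
  obtain ⟨φ⟩ := GrothLib.LC.nonempty_baseChange_equiv (R' := B) I i M
  have := hn i hi
  exact φ.symm.toEquiv.subsingleton

theorem idealDepth_baseChange_eq [Module.FaithfullyFlat A B] (M : Type u) [AddCommGroup M]
    [Module A M] [Module.Finite A M] :
    LocCoh.idealDepth (I.map (algebraMap A B)) (B ⊗[A] M) = LocCoh.idealDepth I M := by
  refine (le_of_forall_coe_le fun n hn => ?_).antisymm (idealDepth_le_baseChange I M)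
  rw [le_idealDepth_iff_H] at hn ⊢
  intro i hi
  obtain ⟨φ⟩ := GrothLib.LC.nonempty_baseChange_equiv (R' := B) I i M
  have := hn i hi
  have h : Subsingleton (B ⊗[A] LocCoh.H I i M) := φ.toEquiv.subsingleton
  exact (Module.FaithfullyFlat.subsingleton_tensorProduct_iff_right A B).1 h

theorem idealDepth_eq_of_equiv {R : Type u} [CommRing R] [IsNoetherianRing R] (J : Ideal R)
    {M N : Type u} [AddCommGroup M] [Module R M] [AddCommGroup N] [Module R N] [Module.Finite R M]
    [Module.Finite R N] (e : M ≃ₗ[R] N) : LocCoh.idealDepth J M = LocCoh.idealDepth J N := by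
  have key : ∀ n : ℕ, (n : ℕ∞) ≤ LocCoh.idealDepth J M ↔ (n : ℕ∞) ≤ LocCoh.idealDepth J N :=
    fun n => by
      rw [le_idealDepth_iff_H, le_idealDepth_iff_H]
      exact forall₂_congr fun i _ =>
        ((localCohomology J i).mapIso e.toModuleIso).toLinearEquiv.toEquiv.subsingleton_congr
  exact (le_of_forall_coe_le fun n hn => (key n).1 hn).antisymm
    (le_of_forall_coe_le fun n hn => (key n).2 hn)

end GrothLib.Depth
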