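import Groth.Agent.Lib.Depth.Local
import Groth.Agent.Lib.Depth.Reduce
import Groth.Agent.Lib.LC.Cd
import Groth.Agent.Lib.LC.ChangeSeq
import Groth.Agent.Lib.LC.Artinian
import Groth.Agent.Lib.LC.TopNonzero
import Groth.Agent.Lib.CMFree.Params

/-! Cohen–Macaulay modules; regular sequences from the depth. -/

universe u

open CategoryTheory IsLocalRing RingTheory.Sequence

namespace GrothLib.Depth

variable {R : Type u} [CommRing R] [IsNoetherianRing R] [IsLocalRing R]
variable {M : Type u} [AddCommGroup M] [Module R M] [Module.Finite R M]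

omit [IsNoetherianRing R] in
theorem smul_top_ne_top {I : Ideal R} (hI : I ≠ ⊤) [Nontrivial M] :
    I • (⊤ : Submodule R M) ≠ ⊤ :=
  (Submodule.top_ne_ideal_smul_of_le_jacobson_annihilator
    (((IsLocalRing.le_maximalIdeal hI).trans (maximalIdeal_le_jacobson _)))).symm

theorem depth_le_dim_quotient {p : Ideal R} (hp : p ∈ associatedPrimes R M) :
    ((LocCoh.depth R M : ℕ∞) : WithBot ℕ∞) ≤ ringKrullDim (R ⧸ p) := by
  haveI : Nontrivial (R ⧸ p) := Ideal.Quotient.nontrivial_iff.2 hp.isPrime.ne_top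
  obtain ⟨e, he⟩ := WithBot.ne_bot_iff_exists.1
    (ne_bot_of_le_ne_bot (WithBot.coe_ne_bot (a := (0 : ℕ∞))) (ringKrullDim_nonneg_of_nontrivial (R := R ⧸ p)))
  rw [← he]
  refine WithBot.coe_le_coe.2 (le_of_forall_coe_le fun n hn => ?_)
  refine WithBot.coe_le_coe.1 ?_
  rw [he]
  exact CMFree.natCast_le_ringKrullDim_quotient M n hn p hp

theorem dim_quotient_le_supportDim {p : Ideal R} (hp : p ∈ associatedPrimes R M) :
    ringKrullDim (R ⧸ p) ≤ Module.supportDim R M := by
  rw [Module.supportDim_eq_ringKrullDim_quotient_annihilator]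
  have hle : Module.annihilator R M ≤ p :=
    le_of_eq_of_le Submodule.annihilator_top.symm (IsAssociatedPrime.annihilator_le hp)
  exact ringKrullDim_le_of_surjective (Ideal.Quotient.factor hle) (Ideal.Quotient.factor_surjective hle)

theorem idealDepth_ne_top {I : Ideal R} (hI : I ≠ ⊤) [Nontrivial M] :
    LocCoh.idealDepth I M ≠ ⊤ := by
  obtain ⟨p, hp⟩ := associatedPrimes.nonempty R M
  intro h
  have h1 : LocCoh.depth R M = ⊤ :=
    top_le_iff.1 (h.ge.trans (idealDepth_mono (IsLocalRing.le_maximalIdeal hI)))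
  have h2 := depth_le_dim_quotient hp
  rw [h1] at h2
  obtain ⟨n, hn⟩ : ∃ n : ℕ, ringKrullDim R ≤ n := by
    obtain ⟨n, hn⟩ := ENat.ne_top_iff_exists.1 (Ideal.height_ne_top (I := maximalIdeal R)
      (maximalIdeal.isMaximal R).ne_top)
    refine ⟨n, le_of_eq ?_⟩
    rw [← IsLocalRing.maximalIdeal_height_eq_ringKrullDim, ← hn]
    rfl
  have h3 := h2.trans ((ringKrullDim_le_of_surjective (Ideal.Quotient.mk p)
    Ideal.Quotient.mk_surjective).trans hn)
  exact ENat.natCast_ne_top n (top_le_iff.1 (WithBot.coe_le_coe.1 h3))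

theorem one_le_idealDepth_iff {I : Ideal R} (hI : I ≠ ⊤) [Nontrivial M] :
    1 ≤ LocCoh.idealDepth I M ↔ ∃ x ∈ I, IsSMulRegular M x := by
  rw [show (1 : ℕ∞) = ((1 : ℕ) : ℕ∞) by simp, le_idealDepth_iff_exists I (smul_top_ne_top hI)]
  constructor
  · rintro ⟨rs, h1, h2, h3⟩
    obtain ⟨x, rfl⟩ := List.length_eq_one_iff.1 h1
    exact ⟨x, h2 x (by simp), (isWeaklyRegular_singleton_iff M x).1 h3⟩
  · rintro ⟨x, hx, hreg⟩
    exact ⟨[x], rfl, by simpa using hx, (isWeaklyRegular_singleton_iff M x).2 hreg⟩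

theorem exists_associatedPrime_ge {I : Ideal R} (hI : I ≠ ⊤) [Nontrivial M]
    (h : ¬ 1 ≤ LocCoh.idealDepth I M) : ∃ p ∈ associatedPrimes R M, I ≤ p := by
  by_contra hc
  push Not at hc
  obtain ⟨x, hxI, hx⟩ := LC.exists_mem_forall_notMem (associatedPrimes.finite R M)
    (fun P hP => hP.isPrime) hc
  refine h ((one_le_idealDepth_iff hI).2 ⟨x, hxI, ?_⟩)
  rw [isSMulRegular_iff_right_eq_zero_of_smul]
  intro z hz
  by_contra hz0
  have : x ∈ ⋃ p ∈ associatedPrimes R M, (p : Set R) := by
    rw [biUnion_associatedPrimes_eq_zero_divisors]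
    exact ⟨z, hz0, hz⟩
  obtain ⟨P, hP, hxP⟩ := Set.mem_iUnion₂.1 this
  exact hx P hP hxP

theorem one_le_idealDepth_of_cons {b : Ideal R} {x : R} [Nontrivial M]
    (hb : b ⊔ Ideal.span {x} ≤ maximalIdeal R)
    (h : 2 ≤ LocCoh.idealDepth (b ⊔ Ideal.span {x}) M) : 1 ≤ LocCoh.idealDepth b M := by
  have hH := (le_idealDepth_iff_H (b ⊔ Ideal.span {x}) 2).1 (by exact_mod_cast h)
  rw [show (1 : ℕ∞) = ((1 : ℕ) : ℕ∞) by simp, le_idealDepth_iff_H]
  intro i hi
  obtain rfl : i = 0 := by omega
  let Mc := ModuleCat.of R M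
  haveI h0 := hH 0 (by omega)
  haveI h1 := hH 1 (by omega)
  have hinj : Function.Injective (LC.locMap b x Mc 0).hom := by
    rw [injective_iff_map_eq_zero]
    intro y hy
    obtain ⟨z, rfl⟩ := (LC.exact_hmap_locMap b x Mc 0 y).1 hy
    rw [h0.elim z 0, map_zero]
  have hsurj : Function.Surjective (LC.locMap b x Mc 0).hom := fun y =>
    (LC.exact_locMap_locδ b x Mc 0 y).1 (h1.elim _ _)
  haveI := LC.isLocalizedModule_locMap b x Mc 0
  haveI : Module.Finite R ((localCohomology b 0).obj Mc) :=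
    Module.Finite.equiv (LC.torsionEquiv b Mc)
  have hle : (⊤ : Submodule R ((localCohomology b 0).obj Mc)) ≤
      Ideal.span {x} • (⊤ : Submodule R ((localCohomology b 0).obj Mc)) := fun y _ => by
    obtain ⟨z, hz⟩ := ((Module.End.isUnit_iff _).1
      (IsLocalizedModule.map_units (LC.locMap b x Mc 0).hom ⟨x, Submonoid.mem_powers x⟩)).2
      ((LC.locMap b x Mc 0).hom y)
    obtain ⟨w, rfl⟩ := hsurj z
    have : y = x • w := hinj (by rw [map_smul]; exact hz.symm)
    rw [this]
    exact Submodule.smul_mem_smul (Ideal.mem_span_singleton_self x) Submodule.mem_top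
  have hbot := Submodule.eq_bot_of_le_smul_of_le_jacobson_bot _ _ Module.Finite.fg_top hle
    ((le_sup_right.trans hb).trans (maximalIdeal_le_jacobson _))
  exact subsingleton_of_forall_eq 0 fun y =>
    (Submodule.mem_bot R).1 (hbot ▸ Submodule.mem_top (x := y))

theorem nontrivial_quotient_ofList [Nontrivial M] (rs : List R)
    (h : ∀ r ∈ rs, r ∈ maximalIdeal R) :
    Nontrivial (M ⧸ (Ideal.ofList rs • ⊤ : Submodule R M)) :=
  Submodule.Quotient.nontrivial_iff.2 (smul_top_ne_top fun e =>
    (maximalIdeal.isMaximal R).ne_top (top_le_iff.1 (e.ge.trans (Ideal.span_le.2 h))))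

theorem le_idealDepth_of_sup_span {b : Ideal R} {x : R} [Nontrivial M]
    (hb : b ⊔ Ideal.span {x} ≤ maximalIdeal R) (n : ℕ)
    (h : ((n + 1 : ℕ) : ℕ∞) ≤ LocCoh.idealDepth (b ⊔ Ideal.span {x}) M) :
    (n : ℕ∞) ≤ LocCoh.idealDepth b M := by
  by_contra hlt
  rw [not_le] at hlt
  have hbt : b ≠ ⊤ := fun e => (maximalIdeal.isMaximal R).ne_top
    (top_le_iff.1 (e.ge.trans (le_sup_left.trans hb)))
  obtain ⟨j, hj⟩ := ENat.ne_top_iff_exists.1 (ne_top_of_lt hlt)
  obtain ⟨rs, hlen, hmem, hreg⟩ := (le_idealDepth_iff_exists b (smul_top_ne_top hbt) j).1 hj.le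
  have hb' := idealDepth_ofList b rs hmem M hreg
  have ha := idealDepth_ofList (b ⊔ Ideal.span {x}) rs (fun r hr => Ideal.mem_sup_left (hmem r hr)) M hreg
  haveI := nontrivial_quotient_ofList (M := M) rs fun r hr => hb (Ideal.mem_sup_left (hmem r hr))
  set N := M ⧸ (Ideal.ofList rs • ⊤ : Submodule R M)
  rw [← hj] at hlt
  have hjn : j + 1 ≤ n := by exact_mod_cast hlt
  rw [hlen] at hb' ha
  have h2 : 2 ≤ LocCoh.idealDepth (b ⊔ Ideal.span {x}) N := by
    by_contra hc
    obtain ⟨c, hc'⟩ := ENat.ne_top_iff_exists.1 (ne_top_of_lt (not_le.1 hc))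
    rw [← hc'] at hc ha
    rw [ha] at h
    have h' : n + 1 ≤ c + j := by exact_mod_cast h
    exact hc (le_trans (le_of_eq (by norm_num)) (Nat.cast_le.2 (show 2 ≤ c by omega)))
  have h1 := one_le_idealDepth_of_cons hb h2
  rw [← hj] at hb'
  have h' : ((1 + j : ℕ) : ℕ∞) ≤ (j : ℕ∞) := by
    refine le_trans ?_ hb'.ge
    push_cast
    gcongr
  exact absurd (Nat.cast_le.1 h') (by omega)

theorem isWeaklyRegular_of_le_idealDepth [Nontrivial M] (xs : List R)
    (hxs : ∀ x ∈ xs, x ∈ maximalIdeal R)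
    (h : (xs.length : ℕ∞) ≤ LocCoh.idealDepth (Ideal.ofList xs) M) :
    IsWeaklyRegular M xs := by
  induction xs using List.reverseRecOn with
  | nil => exact IsWeaklyRegular.nil R M
  | append_singleton ys x ih =>
    have hm : Ideal.ofList (ys ++ [x]) ≤ maximalIdeal R := Ideal.span_le.2 hxs
    rw [Ideal.ofList_append, Ideal.ofList_singleton] at h hm
    rw [List.length_append, List.length_singleton] at h
    have hys := ih (fun y hy => hxs y (List.mem_append_left _ hy)) (le_idealDepth_of_sup_span hm _ h)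
    have heq := idealDepth_ofList (Ideal.ofList ys ⊔ Ideal.span {x}) ys
      (fun y hy => Ideal.mem_sup_left (Ideal.subset_span hy)) M hys
    haveI := nontrivial_quotient_ofList (M := M) ys fun y hy => hxs y (List.mem_append_left _ hy)
    set N := M ⧸ (Ideal.ofList ys • ⊤ : Submodule R M)
    have h1 : 1 ≤ LocCoh.idealDepth (Ideal.ofList ys ⊔ Ideal.span {x}) N := by
      by_contra hc
      rw [Order.lt_one_iff.1 (not_le.1 hc), zero_add] at heq
      rw [heq] at h
      exact Nat.not_succ_le_self ys.length (Nat.cast_le.1 h)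
    obtain ⟨r, hr, hreg⟩ := (one_le_idealDepth_iff fun e => (maximalIdeal.isMaximal R).ne_top
      (top_le_iff.1 (e.ge.trans hm))).1 h1
    rw [isWeaklyRegular_append_iff, isWeaklyRegular_singleton_iff]
    refine ⟨hys, ?_⟩
    obtain ⟨β, hβ, γ, hγ, rfl⟩ := Submodule.mem_sup.1 hr
    obtain ⟨c, rfl⟩ := Ideal.mem_span_singleton'.1 hγ
    rw [isSMulRegular_iff_right_eq_zero_of_smul] at hreg ⊢
    intro z hz
    refine hreg z ?_
    rw [add_smul, mul_smul, hz, smul_zero, add_zero]
    obtain ⟨m, rfl⟩ := Submodule.Quotient.mk_surjective _ z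
    rw [← Submodule.Quotient.mk_smul, Submodule.Quotient.mk_eq_zero]
    exact Submodule.smul_mem_smul hβ Submodule.mem_top

theorem idealDepth_span_eq_length [Nontrivial M] (xs : List R)
    (hxs : ∀ x ∈ xs, x ∈ maximalIdeal R) (h : IsWeaklyRegular M xs) :
    LocCoh.idealDepth (Ideal.ofList xs) M = xs.length := by
  have heq := idealDepth_ofList (Ideal.ofList xs) xs (fun x hx => Ideal.subset_span hx) M h
  haveI := nontrivial_quotient_ofList (M := M) xs hxs
  set N := M ⧸ (Ideal.ofList xs • ⊤ : Submodule R M)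
  suffices h0 : LocCoh.idealDepth (Ideal.ofList xs) N = 0 by rw [heq, h0, zero_add]
  by_contra hne
  obtain ⟨r, hr, hreg⟩ := (one_le_idealDepth_iff fun e => (maximalIdeal.isMaximal R).ne_top
    (top_le_iff.1 (e.ge.trans (Ideal.span_le.2 hxs)))).1 (Order.one_le_iff_pos.2 (pos_iff_ne_zero.2 hne))
  obtain ⟨z, hz⟩ := exists_ne (0 : N)
  refine hz (hreg ?_)
  show r • z = r • 0
  rw [smul_zero]
  obtain ⟨m, rfl⟩ := Submodule.Quotient.mk_surjective _ z
  rw [← Submodule.Quotient.mk_smul, Submodule.Quotient.mk_eq_zero]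
  exact Submodule.smul_mem_smul hr Submodule.mem_top

theorem nontrivial_of_isCM (hM : LocCoh.IsCohenMacaulayModule R M) : Nontrivial M :=
  (Module.supportDim_ne_bot_iff_nontrivial R M).1 (hM ▸ WithBot.coe_ne_bot)

theorem isCM_quotSMulTop (hM : LocCoh.IsCohenMacaulayModule R M) {x : R}
    (hx : x ∈ maximalIdeal R) (hreg : IsSMulRegular M x) :
    LocCoh.IsCohenMacaulayModule R (QuotSMulTop x M) := by
  haveI := nontrivial_of_isCM hM
  have hd := idealDepth_quotSMulTop_add_one (maximalIdeal R) hx hreg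
  have hdim : Module.supportDim R (QuotSMulTop x M) + 1 = Module.supportDim R M :=
    Module.supportDim_quotSMulTop_succ_eq_supportDim_mem_jacobson hreg (maximalIdeal_le_jacobson _ hx)
  obtain ⟨d, hd'⟩ := ENat.ne_top_iff_exists.1
    (idealDepth_ne_top (M := M) (maximalIdeal.isMaximal R).ne_top)
  have hne : LocCoh.depth R (QuotSMulTop x M) ≠ ⊤ := fun e => by
    rw [LocCoh.depth] at e
    rw [e, top_add, ← hd'] at hd
    exact WithTop.top_ne_coe hd
  obtain ⟨e, he⟩ := ENat.ne_top_iff_exists.1 hne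
  unfold LocCoh.IsCohenMacaulayModule at hM ⊢
  rw [hM, LocCoh.depth, ← hd'] at hdim
  rw [LocCoh.depth] at he
  rw [← he, ← hd'] at hd
  have hde : d = e + 1 := by exact_mod_cast hd.symm
  show _ = ((LocCoh.idealDepth (maximalIdeal R) (QuotSMulTop x M) : ℕ∞) : WithBot ℕ∞)
  rw [← he]
  subst hde
  exact LC.eq_natCast_of_add_one_eq hdim

theorem supportDim_eq_add_idealDepth (t : ℕ) {I : Ideal R} (hI : I ≠ ⊤) :
    ∀ (M : Type u) [AddCommGroup M] [Module R M] [Module.Finite R M],
      LocCoh.IsCohenMacaulayModule R M → LocCoh.idealDepth I M = t →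
      Module.supportDim R M =
        Module.supportDim R (M ⧸ (I • (⊤ : Submodule R M))) + (t : WithBot ℕ∞) := by
  induction t with
  | zero =>
    intro M _ _ _ hM ht
    haveI := nontrivial_of_isCM hM
    rw [Nat.cast_zero, add_zero]
    refine le_antisymm ?_ (Module.supportDim_le_of_surjective _ (Submodule.mkQ_surjective _))
    obtain ⟨p, hp, hIp⟩ := exists_associatedPrime_ge hI (M := M) (by rw [ht]; simp)
    rw [hM]
    refine (depth_le_dim_quotient hp).trans ?_
    rw [Module.supportDim_eq_ringKrullDim_quotient_annihilator]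
    have hle : Module.annihilator R (M ⧸ I • (⊤ : Submodule R M)) ≤ p := by
      haveI := hp.isPrime
      have hmem : (⟨p, hp.isPrime⟩ : PrimeSpectrum R) ∈ Module.support R (M ⧸ I • (⊤ : Submodule R M)) := by
        rw [Module.support_quotient]
        exact ⟨Module.mem_support_iff_of_finite.2
          (le_of_eq_of_le Submodule.annihilator_top.symm (IsAssociatedPrime.annihilator_le hp)), hIp⟩
      exact Module.mem_support_iff_of_finite.1 hmem
    exact ringKrullDim_le_of_surjective (Ideal.Quotient.factor hle) (Ideal.Quotient.factor_surjective hle)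
  | succ t ih =>
    intro M _ _ _ hM ht
    haveI := nontrivial_of_isCM hM
    obtain ⟨x, hxI, hreg⟩ := (one_le_idealDepth_iff hI (M := M)).1 (by rw [ht]; simp)
    have hxm := IsLocalRing.le_maximalIdeal hI hxI
    have h1 := ih (QuotSMulTop x M) (isCM_quotSMulTop hM hxm hreg) ?_
    · rw [← Module.supportDim_quotSMulTop_succ_eq_supportDim_mem_jacobson hreg
        (maximalIdeal_le_jacobson _ hxm), h1, Nat.cast_succ, ← add_assoc]
      congr 2
      unfold Module.supportDim
      have hz : PrimeSpectrum.zeroLocus ({x} : Set R) ∩ PrimeSpectrum.zeroLocus (I : Set R) =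
          PrimeSpectrum.zeroLocus (I : Set R) :=
        Set.inter_eq_right.2 (PrimeSpectrum.zeroLocus_anti_mono (Set.singleton_subset_iff.2 hxI))
      rw [Module.support_quotient, Module.support_quotient, Module.support_quotSMulTop, Set.inter_assoc, hz]
    · have := idealDepth_quotSMulTop_add_one I hxI hreg
      rw [ht, Nat.cast_succ] at this
      generalize LocCoh.idealDepth I (QuotSMulTop x M) = a at this ⊢
      induction a using ENat.recTopCoe with
      | top =>
        rw [top_add, ← Nat.cast_succ] at this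
        exact absurd this.symm (ENat.natCast_ne_top _)
      | coe a => exact_mod_cast Nat.add_right_cancel (by exact_mod_cast this : a + 1 = t + 1)

end GrothLib.Depth

namespace GrothLib.Depth

open CategoryTheory IsLocalRing

theorem depth_le_supportDim (R : Type u) [CommRing R] [IsNoetherianRing R] [IsLocalRing R]
    (M : Type u) [AddCommGroup M] [Module R M] [Module.Finite R M] [Nontrivial M] :
    ((LocCoh.depth R M : ℕ∞) : WithBot ℕ∞) ≤ Module.supportDim R M := by
  obtain ⟨p, hp⟩ := associatedPrimes.nonempty R M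
  exact (depth_le_dim_quotient hp).trans (dim_quotient_le_supportDim hp)

theorem depth_localization_self {R : Type u} [CommRing R] [IsNoetherianRing R] (p : Ideal R) [p.IsPrime] :
    LocCoh.depth (Localization.AtPrime p) (LocalizedModule p.primeCompl R) =
      LocCoh.depth (Localization.AtPrime p) (Localization.AtPrime p) :=
  haveI : IsNoetherianRing (Localization.AtPrime p) :=
    IsLocalization.isNoetherianRing p.primeCompl _ inferInstance
  idealDepth_eq_of_equiv _ ((LocalizedModule.equivTensorProduct p.primeCompl R).trans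
    (TensorProduct.AlgebraTensorModule.rid R (Localization.AtPrime p) (Localization.AtPrime p)))

theorem depth_eq_top_of_subsingleton {R : Type u} [CommRing R] [IsLocalRing R]
    (M : Type u) [AddCommGroup M] [Module R M] [Subsingleton M] : LocCoh.depth R M = ⊤ := by
  rw [LocCoh.depth, LocCoh.idealDepth, if_pos (Subsingleton.elim _ _)]

end GrothLib.Depth
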