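import Groth.Agent.Lib.Depth.Basic
import Groth.Agent.Lib.RegSeqLoc.Basic
import Mathlib.AlgebraicGeometry.Noetherian
import Mathlib.Topology.Sheaves.SheafCondition.UniqueGluing

/-!
Sections over an open containing all points of depth `≤ 1` extend uniquely.
-/

universe u

open CategoryTheory AlgebraicGeometry TopologicalSpace Opposite RingTheory.Sequence

namespace GrothLib.Depth

variable {X : Scheme.{u}}

/-- Restriction of sections. -/
noncomputable abbrev res {V W : X.Opens} (h : W ≤ V) (s : Γ(X, V)) : Γ(X, W) :=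
  X.presheaf.map (homOfLE h).op s

theorem res_res {U V W : X.Opens} (h₁ : V ≤ U) (h₂ : W ≤ V) (s : Γ(X, U)) :
    res h₂ (res h₁ s) = res (h₂.trans h₁) s :=
  (congr($(X.presheaf.map_comp (homOfLE h₁).op (homOfLE h₂).op) s)).symm

theorem germ_res {V W : X.Opens} (h : W ≤ V) (y : X) (hy : y ∈ W) (s : Γ(X, V)) :
    X.presheaf.germ W y hy (res h s) = X.presheaf.germ V y (h hy) s :=
  TopCat.Presheaf.germ_res_apply _ _ _ _ _

theorem germ_eq_of_isWeaklyRegular {W O : X.Opens} (hW : IsAffineOpen W) {a : Γ(X, W)}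
    {rest : List Γ(X, W)} (ha : IsWeaklyRegular Γ(X, W) (a :: rest)) (hOW : O ≤ W) {d d' : Γ(X, O)}
    (h : ∀ (y : X) (hy : y ∈ O), y ∈ X.basicOpen a →
      X.presheaf.germ O y hy d = X.presheaf.germ O y hy d') : d = d' := by
  refine TopCat.Presheaf.section_ext X.sheaf O d d' fun y hy => ?_
  obtain ⟨_, ⟨W', hW', rfl⟩, hyW', hW'O⟩ := X.isBasis_affineOpens.exists_subset_of_mem_open hy O.2
  let W' : X.Opens := W'
  have hle : W' ≤ O := hW'O
  let a' := res (hle.trans hOW) a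
  have hD : res (X.basicOpen_le a') (res hle d) = res (X.basicOpen_le a') (res hle d') := by
    refine TopCat.Presheaf.section_ext X.sheaf _ _ _ fun z hz => ?_
    have hza : z ∈ X.basicOpen a := by
      have : z ∈ X.basicOpen a' := hz
      simp only [a', res, Scheme.basicOpen_res] at this
      exact this.2
    show X.presheaf.germ (X.basicOpen a') z hz _ = X.presheaf.germ (X.basicOpen a') z hz _
    rw [germ_res, germ_res, germ_res, germ_res]
    exact h z _ hza
  have := hW'.isLocalization_basicOpen a'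
  obtain ⟨⟨_, n, rfl⟩, hc⟩ := (IsLocalization.eq_iff_exists (.powers a') Γ(X, X.basicOpen a')).mp hD
  have hg := congrArg (X.presheaf.germ W' y hyW') hc
  rw [map_mul, map_mul, map_pow, germ_res, germ_res, germ_res] at hg
  have := hW.isLocalization_stalk ⟨y, hOW hy⟩
  have hreg : IsSMulRegular (X.presheaf.stalk y) (X.presheaf.germ W y (hOW hy) a) := by
    let _ := TopCat.Presheaf.algebra_section_stalk X.presheaf (⟨y, hOW hy⟩ : W)
    have h1 := IsWeaklyRegular.of_isLocalization (S := X.presheaf.stalk y)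
      (hW.primeIdealOf ⟨y, hOW hy⟩).asIdeal.primeCompl ha
    rw [List.map_cons, isWeaklyRegular_cons_iff] at h1
    exact h1.1
  exact (hreg.pow n) hg

/-- A power of the second element stays regular modulo a power of the first. -/
theorem mem_span_pow_of_mul_pow {A : Type*} [CommRing A] {a b : A} (ha : IsSMulRegular A a)
    (hb : ∀ y, b * y ∈ Ideal.span {a} → y ∈ Ideal.span {a}) (n : ℕ) :
    ∀ (k : ℕ) (y : A), b ^ k * y ∈ Ideal.span {a ^ n} → y ∈ Ideal.span {a ^ n} := by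
  induction n with
  | zero => intro k y _; simp
  | succ n ih =>
    intro k y hy
    obtain ⟨c, hc⟩ := Ideal.mem_span_singleton'.mp hy
    have hb' : ∀ (j : ℕ) (z : A), b ^ j * z ∈ Ideal.span {a} → z ∈ Ideal.span {a} := by
      intro j
      induction j with
      | zero => intro z hz; simpa using hz
      | succ j ihj => intro z hz; exact hb z (ihj (b * z) (by rwa [← mul_assoc, ← pow_succ]))
    obtain ⟨y', rfl⟩ := Ideal.mem_span_singleton'.mp (hb' k y (Ideal.mem_span_singleton'.mpr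
      ⟨c * a ^ n, by rw [← hc]; ring⟩))
    have h1 : b ^ k * y' = c * a ^ n := ha (show a * (b ^ k * y') = a * (c * a ^ n) by
      linear_combination (-1 : A) * hc)
    obtain ⟨d, rfl⟩ := Ideal.mem_span_singleton'.mp (ih k y' (Ideal.mem_span_singleton'.mpr ⟨c, h1.symm⟩))
    exact Ideal.mem_span_singleton'.mpr ⟨d, by ring⟩

/-- Near a maximal point of a closed set with local depth at least two, the closed set lies in the zero
locus of a regular pair. -/
theorem exists_nice_nhd [IsLocallyNoetherian X] (C : Set X) (hC : IsClosed C) {x : X}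
    (hmax : ∀ y ∈ C, y ⤳ x → y = x)
    (hdepth : (2 : ℕ∞) ≤ LocCoh.depth (X.presheaf.stalk x) (X.presheaf.stalk x))
    {V : X.Opens} (hxV : x ∈ V) :
    ∃ W : X.Opens, IsAffineOpen W ∧ W ≤ V ∧ x ∈ W ∧ ∃ a b : Γ(X, W),
      IsWeaklyRegular Γ(X, W) [a, b] ∧ ∀ y ∈ C, y ∉ X.basicOpen a ∧ y ∉ X.basicOpen b := by
  obtain ⟨_, ⟨W₀, hW₀, rfl⟩, hxW₀, hW₀V⟩ := X.isBasis_affineOpens.exists_subset_of_mem_open hxV V.2
  let W₀ : X.Opens := W₀
  have hW₀ : IsAffineOpen W₀ := hW₀
  have : IsNoetherianRing Γ(X, W₀) := IsLocallyNoetherian.component_noetherian ⟨W₀, hW₀⟩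
  have : IsAffine W₀.toScheme := hW₀
  have : IsNoetherian W₀.toScheme := by
    have : CompactSpace W₀.toScheme := isCompact_iff_compactSpace.mp hW₀.isCompact
    exact {}
  obtain ⟨T, hTf, hTi, hT⟩ := NoetherianSpace.exists_finite_set_closeds_irreducible
    (⟨W₀.ι ⁻¹' C, hC.preimage W₀.ι.continuous⟩ : Closeds W₀.toScheme)
  let bad : Set X := ⋃ t ∈ {t ∈ T | x ∉ closure (W₀.ι '' (t : Set W₀.toScheme))},
    closure (W₀.ι '' (t : Set W₀.toScheme))
  have hbad : IsClosed bad := (hTf.subset (Set.sep_subset _ _)).isClosed_biUnion fun _ _ => isClosed_closure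
  have hxbad : x ∉ bad := fun h => by
    obtain ⟨t, ht, hxt⟩ := Set.mem_iUnion₂.mp h
    exact ht.2 hxt
  obtain ⟨_, ⟨W₁, hW₁, rfl⟩, hxW₁, hW₁sub⟩ := X.isBasis_affineOpens.exists_subset_of_mem_open
    (show x ∈ (W₀ : Set X) ∩ badᶜ from ⟨hxW₀, hxbad⟩) (W₀.2.inter hbad.isOpen_compl)
  let W₁ : X.Opens := W₁
  have hW₁ : IsAffineOpen W₁ := hW₁
  have hC₁ : ∀ y ∈ C, y ∈ W₁ → x ⤳ y := by
    intro y hyC hy
    obtain ⟨y₀, rfl⟩ : y ∈ Set.range W₀.ι := by rw [Scheme.Opens.range_ι]; exact (hW₁sub hy).1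
    obtain ⟨t, htT, hyt⟩ : ∃ t ∈ T, y₀ ∈ (t : Set W₀.toScheme) := by
      have h1 : y₀ ∈ ((⟨W₀.ι ⁻¹' C, hC.preimage W₀.ι.continuous⟩ : Closeds W₀.toScheme) : Set W₀.toScheme) := hyC
      rw [hT, Closeds.coe_sSup] at h1
      have hcl : IsClosed (⋃ t ∈ T, (t : Set W₀.toScheme)) := hTf.isClosed_biUnion fun t _ => t.isClosed
      rw [Set.sUnion_image, hcl.closure_eq] at h1
      simpa using h1
    obtain ⟨η, hη⟩ := QuasiSober.sober (hTi t htT) t.isClosed
    have hηC : W₀.ι η ∈ C := by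
      have h2 : t ≤ (⟨W₀.ι ⁻¹' C, hC.preimage W₀.ι.continuous⟩ : Closeds W₀.toScheme) := hT ▸ le_sSup htT
      exact h2 hη.mem
    by_cases hx : x ∈ closure (W₀.ι '' (t : Set W₀.toScheme))
    · have h3 : closure (W₀.ι '' (t : Set W₀.toScheme)) = closure {W₀.ι η} := by
        rw [← hη.def, closure_image_closure W₀.ι.continuous, Set.image_singleton]
      rw [h3] at hx
      obtain rfl := hmax _ hηC (specializes_iff_mem_closure.mpr hx)
      exact (hη.specializes hyt).map W₀.ι.continuous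
    · have hbad' : W₀.ι y₀ ∈ bad :=
        Set.mem_iUnion₂.mpr ⟨t, show t ∈ {t ∈ T | _} from ⟨htT, hx⟩, subset_closure ⟨y₀, hyt, rfl⟩⟩
      exact absurd hbad' (hW₁sub hy).2
  have : IsNoetherianRing Γ(X, W₁) := IsLocallyNoetherian.component_noetherian ⟨W₁, hW₁⟩
  let A := X.presheaf.stalk x
  have hne : IsLocalRing.maximalIdeal A • (⊤ : Submodule A A) ≠ ⊤ := by
    rw [smul_eq_mul, Ideal.mul_top]; exact (IsLocalRing.maximalIdeal.isMaximal A).ne_top
  obtain ⟨rs, hlen, hmem, hreg⟩ := (le_idealDepth_iff_exists _ hne 2).mp hdepth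
  obtain ⟨α, β, rfl⟩ := List.length_eq_two.mp hlen
  let alg : Algebra Γ(X, W₁) A := TopCat.Presheaf.algebra_section_stalk X.presheaf (⟨x, hxW₁⟩ : W₁)
  let p := (hW₁.primeIdealOf ⟨x, hxW₁⟩).asIdeal
  have hloc : IsLocalization.AtPrime A p := hW₁.isLocalization_stalk ⟨x, hxW₁⟩
  let v : Fin 2 → A := ![α, β]
  choose num hnum using fun i => IsLocalization.surj p.primeCompl (v i)
  let a₀ : Fin 2 → Γ(X, W₁) := fun i => (num i).1
  let w : Fin 2 → A := fun i => algebraMap Γ(X, W₁) A (num i).2.1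
  have hw : ∀ i, IsUnit (w i) := fun i => IsLocalization.map_units _ (num i).2
  have ha₀ : (List.ofFn a₀).map (algebraMap Γ(X, W₁) A) = List.ofFn fun i => w i * v i := by
    rw [List.map_ofFn]
    congr 1
    funext i
    exact (hnum i).symm.trans (mul_comm _ _)
  have hv : List.ofFn v = [α, β] := by simp [v]
  have hreg₀ : IsWeaklyRegular A ((List.ofFn a₀).map (algebraMap Γ(X, W₁) A)) := by
    rw [ha₀]; exact RegSeqLoc.isWeaklyRegular_ofFn_mul w hw (hv ▸ hreg)
  obtain ⟨g, hg, hspread⟩ := RegSeqLoc.exists_away_isWeaklyRegular p.primeCompl A (List.ofFn a₀) hreg₀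
  let W := X.basicOpen g
  have hxW : x ∈ W := (Scheme.mem_basicOpen _ _ x hxW₁).2 (IsLocalization.map_units A (⟨g, hg⟩ : p.primeCompl))
  let _ : Algebra Γ(X, W₁) Γ(X, W) := (X.presheaf.map (homOfLE (X.basicOpen_le g)).op).hom.toAlgebra
  have : IsLocalization.Away g Γ(X, W) := hW₁.isLocalization_basicOpen g
  have hregW := hspread (Submonoid.powers g) Γ(X, W) (IsLocalization.Away.algebraMap_isUnit g)
  have hnot : ∀ (i : Fin 2), ∀ y ∈ C, y ∉ X.basicOpen (res (X.basicOpen_le g) (a₀ i)) := by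
    intro i y hyC hy
    rw [Scheme.basicOpen_res] at hy
    have hxy := hC₁ y hyC (X.basicOpen_le g hy.1)
    have hx1 : x ∈ X.basicOpen (a₀ i) := hxy.mem_open (X.basicOpen (a₀ i)).2 hy.2
    have h4 : IsUnit (algebraMap Γ(X, W₁) A (a₀ i)) := (Scheme.mem_basicOpen _ _ x hxW₁).1 hx1
    have h5 : algebraMap Γ(X, W₁) A (a₀ i) = w i * v i := (hnum i).symm.trans (mul_comm _ _)
    rw [h5] at h4
    refine (IsLocalRing.mem_maximalIdeal _).mp (hmem (v i) ?_) (isUnit_of_mul_isUnit_right h4)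
    fin_cases i <;> simp [v]
  refine ⟨W, hW₁.basicOpen g, ((X.basicOpen_le g).trans fun z hz => hW₀V (hW₁sub hz).1), hxW,
    res (X.basicOpen_le g) (a₀ 0), res (X.basicOpen_le g) (a₀ 1), ?_, fun y hy => ⟨hnot 0 y hy, hnot 1 y hy⟩⟩
  simpa [List.ofFn_succ, res, RingHom.algebraMap_toAlgebra] using hregW

theorem exists_maximal_generalization {C : Set X} (hC : IsClosed C) {x₀ : X} (hx₀ : x₀ ∈ C) :
    ∃ x ∈ C, x ⤳ x₀ ∧ ∀ y ∈ C, y ⤳ x → y = x := by
  have : QuasiSober C := hC.isClosedEmbedding_subtypeVal.quasiSober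
  obtain ⟨η, hη⟩ := QuasiSober.sober (isIrreducible_irreducibleComponent (x := (⟨x₀, hx₀⟩ : C)))
    isClosed_irreducibleComponent
  refine ⟨η.1, η.2, (hη.specializes mem_irreducibleComponent).map continuous_subtype_val,
    fun y hy hyη => ?_⟩
  have h1 : (⟨y, hy⟩ : C) ⤳ η := Topology.IsInducing.subtypeVal.specializes_iff.mp hyη
  have h2 : closure {(⟨y, hy⟩ : C)} ⊆ irreducibleComponent (⟨x₀, hx₀⟩ : C) :=
    (irreducibleComponent_mem_irreducibleComponents _).2 isIrreducible_singleton.closure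
      (hη.def ▸ h1.closure_subset)
  exact congrArg Subtype.val (h1.antisymm (hη.specializes (h2 (subset_closure rfl)))).eq

/-- The depth hypothesis on the complement of an open. -/
def DepthTwoOutside (U : X.Opens) : Prop :=
  ∀ x : X, x ∉ U → (2 : ℕ∞) ≤ LocCoh.depth (X.presheaf.stalk x) (X.presheaf.stalk x)

variable [IsLocallyNoetherian X] {U : X.Opens} (hU : DepthTwoOutside U)
include hU

theorem res_injective (V : X.Opens) : Function.Injective (res (X := X) (inf_le_left : V ⊓ U ≤ V)) := by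
  intro s t hst
  refine TopCat.Presheaf.section_ext X.sheaf V s t fun y hy => ?_
  let Z : Set X := {z | ∃ hz : z ∈ V, X.presheaf.germ V z hz s ≠ X.presheaf.germ V z hz t}
  have hZ : ∀ z, z ∈ closure Z → z ∈ V → z ∈ Z := by
    intro z hz hzV
    by_contra hne
    have heq : X.presheaf.germ V z hzV s = X.presheaf.germ V z hzV t := not_not.mp fun h => hne ⟨hzV, h⟩
    obtain ⟨W, hzW, iU, iV, hW⟩ := TopCat.Presheaf.germ_eq X.presheaf z hzV hzV s t heq
    obtain ⟨z', hz'W, hz'V, hz'⟩ := mem_closure_iff.mp hz W W.2 hzW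
    exact hz' ((TopCat.Presheaf.germ_res_apply _ iU _ hz'W s).symm.trans
      ((congrArg _ hW).trans (TopCat.Presheaf.germ_res_apply _ iV _ hz'W t)))
  have hZU : ∀ z ∈ Z, z ∉ U := by
    rintro z ⟨hzV, hz⟩ hzU
    refine hz ?_
    rw [← germ_res inf_le_left z ⟨hzV, hzU⟩ s, ← germ_res inf_le_left z ⟨hzV, hzU⟩ t, hst]
  by_contra hne
  obtain ⟨x, hxC, hxy, hxmax⟩ := exists_maximal_generalization (C := closure Z) isClosed_closure
    (x₀ := y) (subset_closure ⟨hy, hne⟩)
  have hxV : x ∈ V := hxy.mem_open V.2 hy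
  obtain ⟨hxV, hxne⟩ := hZ x hxC hxV
  obtain ⟨W, hW, hWV, hxW, a, b, hab, hC⟩ :=
    exists_nice_nhd (closure Z) isClosed_closure hxmax (hU x (hZU x ⟨hxV, hxne⟩)) hxV
  refine hxne ?_
  rw [← germ_res hWV x hxW s, ← germ_res hWV x hxW t]
  refine congrArg _ (germ_eq_of_isWeaklyRegular hW hab le_rfl fun z hzW hza => ?_)
  rw [germ_res, germ_res]
  by_contra h
  exact (hC z (subset_closure ⟨hWV hzW, h⟩)).1 hza

theorem res_surjective (V : X.Opens) : Function.Surjective (res (X := X) (inf_le_left : V ⊓ U ≤ V)) := by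
  intro s
  let P := Σ' (W : X.Opens) (hW : W ≤ V), {t : Γ(X, W) //
    res (inf_le_left : W ⊓ U ≤ W) t = res (inf_le_inf_right U hW) s}
  let Wf : P → X.Opens := fun i => i.1
  let tf : ∀ i : P, Γ(X, Wf i) := fun i => i.2.2.1
  have hcompat : TopCat.Presheaf.IsCompatible X.presheaf Wf tf := by
    intro i j
    apply res_injective hU (Wf i ⊓ Wf j)
    show res inf_le_left (res inf_le_left (tf i)) = res inf_le_left (res inf_le_right (tf j))
    rw [res_res, res_res]
    have h1 := congrArg (res (inf_le_inf_right U (inf_le_left : Wf i ⊓ Wf j ≤ Wf i))) i.2.2.2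
    have h2 := congrArg (res (inf_le_inf_right U (inf_le_right : Wf i ⊓ Wf j ≤ Wf j))) j.2.2.2
    rw [res_res, res_res] at h1 h2
    exact h1.trans h2.symm
  let Vs : X.Opens := iSup Wf
  have hVs : Vs ≤ V := iSup_le fun i => i.2.1
  obtain ⟨T₀, hT, -⟩ := TopCat.Sheaf.existsUnique_gluing' X.sheaf Wf Vs
    (fun i => homOfLE (le_iSup Wf i)) le_rfl tf hcompat
  let T : Γ(X, Vs) := T₀
  have hT' : ∀ i : P, res (le_iSup Wf i) T = tf i := hT
  clear_value T
  let i₀ : P := ⟨V ⊓ U, inf_le_left, ⟨s, rfl⟩⟩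
  have hi₀ : V ⊓ U ≤ Vs := le_iSup Wf i₀
  by_cases hall : V ≤ Vs
  · exact ⟨res hall T, (res_res _ _ _).trans (hT' i₀)⟩
  exfalso
  obtain ⟨y, hyV, hyVs⟩ := Set.not_subset.mp hall
  obtain ⟨x, hxC, hxy, hxmax⟩ := exists_maximal_generalization (C := (Vs : Set X)ᶜ)
    Vs.2.isClosed_compl (x₀ := y) hyVs
  have hxV : x ∈ V := hxy.mem_open V.2 hyV
  obtain ⟨W, hW, hWV, hxW, a, b, hab, hC⟩ := exists_nice_nhd (Vs : Set X)ᶜ Vs.2.isClosed_compl hxmax
    (hU x fun h => hxC (hi₀ ⟨hxV, h⟩)) hxV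
  have hDa : X.basicOpen a ≤ Vs := fun z hz => by
    by_contra h; exact (hC z h).1 hz
  have hDb : X.basicOpen b ≤ Vs := fun z hz => by
    by_contra h; exact (hC z h).2 hz
  rw [isWeaklyRegular_cons_iff, isWeaklyRegular_cons_iff] at hab
  obtain ⟨hra, hrb, -⟩ := hab
  have hb' : ∀ z, b * z ∈ Ideal.span {a} → z ∈ Ideal.span {a} := by
    have := (isSMulRegular_quotient_iff_mem_of_smul_mem _ _).mp hrb
    simpa [Ideal.span, ← Submodule.ideal_span_singleton_smul, Ideal.mul_top] using this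
  have := hW.isLocalization_basicOpen a
  have := hW.isLocalization_basicOpen b
  obtain ⟨⟨p, ⟨_, n, rfl⟩⟩, hp⟩ := IsLocalization.surj (.powers a) (res hDa T)
  obtain ⟨⟨q, ⟨_, m, rfl⟩⟩, hq⟩ := IsLocalization.surj (.powers b) (res hDb T)
  have hp' : res hDa T * res (X.basicOpen_le a) a ^ n = res (X.basicOpen_le a) p := by
    simpa [res, RingHom.algebraMap_toAlgebra] using hp
  have hq' : res hDb T * res (X.basicOpen_le b) b ^ m = res (X.basicOpen_le b) q := by
    simpa [res, RingHom.algebraMap_toAlgebra] using hq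
  have := hW.isLocalization_basicOpen (a * b)
  have hle1 : X.basicOpen (a * b) ≤ X.basicOpen a := (X.basicOpen_mul a b).le.trans inf_le_left
  have hle2 : X.basicOpen (a * b) ≤ X.basicOpen b := (X.basicOpen_mul a b).le.trans inf_le_right
  have key : res (X.basicOpen_le (a * b)) (p * b ^ m) = res (X.basicOpen_le (a * b)) (q * a ^ n) := by
    have h1 := congrArg (res hle1) hp'
    have h2 := congrArg (res hle2) hq'
    simp only [res, map_mul, map_pow] at h1 h2 ⊢
    simp only [← ConcreteCategory.comp_apply, ← X.presheaf.map_comp, ← op_comp, homOfLE_comp] at h1 h2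
    rw [← h1, ← h2]; ring
  obtain ⟨⟨_, k, rfl⟩, hk⟩ :=
    (IsLocalization.eq_iff_exists (.powers (a * b)) Γ(X, X.basicOpen (a * b))).mp key
  have hmem : b ^ (k + m) * p ∈ Ideal.span {a ^ n} := by
    refine Ideal.mem_span_singleton'.mpr ⟨b ^ k * q, (hra.pow k) ?_⟩
    show a ^ k * (b ^ k * q * a ^ n) = a ^ k * (b ^ (k + m) * p)
    simp only [mul_pow] at hk
    linear_combination (-1 : Γ(X, W)) * hk
  obtain ⟨c, hc⟩ := Ideal.mem_span_singleton'.mp (mem_span_pow_of_mul_pow hra hb' n (k + m) p hmem)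
  have hcT : res (X.basicOpen_le a) c = res hDa T := by
    refine (IsUnit.mul_left_inj ((RingedSpace.isUnit_res_basicOpen _ a).pow n)).mp ?_
    show res (X.basicOpen_le a) c * res (X.basicOpen_le a) a ^ n = res hDa T * res (X.basicOpen_le a) a ^ n
    rw [hp', ← hc]; simp only [res, map_mul, map_pow]
  have hcs : res (inf_le_left : W ⊓ U ≤ W) c = res (inf_le_inf_right U hWV) s := by
    refine germ_eq_of_isWeaklyRegular hW (rest := []) (a := a)
      ((isWeaklyRegular_cons_iff _ _ _).mpr ⟨hra, IsWeaklyRegular.nil _ _⟩) inf_le_left fun z hz hza => ?_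
    have h4 : res hi₀ T = s := hT' i₀
    rw [germ_res, germ_res, ← h4, germ_res, ← germ_res (X.basicOpen_le a) z hza c, hcT, germ_res]
  exact hxC (le_iSup Wf ⟨W, hWV, ⟨c, hcs⟩⟩ hxW)

theorem res_bijective (V : X.Opens) : Function.Bijective (res (X := X) (inf_le_left : V ⊓ U ≤ V)) :=
  ⟨res_injective hU V, res_surjective hU V⟩

end GrothLib.Depth
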