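import Groth.Agent.Lib.Depth.Basic
import Groth.Agent.Lib.LC.TopNonzero
import Mathlib.Algebra.Category.ModuleCat.Ext.Finite
import Mathlib.RingTheory.Ideal.AssociatedPrime.Finiteness
import Mathlib.RingTheory.KrullDimension.NonZeroDivisors

/-! Ischebeck: `Ext^i(N, M) = 0` for `i + dim N < depth M`. -/

universe u

open CategoryTheory Abelian IsLocalRing

namespace GrothLib.Depth

variable {R : Type u} [CommRing R] [IsNoetherianRing R] [IsLocalRing R]
variable (M : Type u) [AddCommGroup M] [Module R M] [Module.Finite R M]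

theorem ringKrullDim_quotient_sup_span_add_one_le (p : Ideal R) [p.IsPrime] {x : R} (hx : x ∉ p) :
    ringKrullDim (R ⧸ (p ⊔ Ideal.span {x})) + 1 ≤ ringKrullDim (R ⧸ p) := by
  haveI : IsDomain (R ⧸ p) := (Ideal.Quotient.isDomain_iff_prime p).2 ‹_›
  refine le_trans ?_ (ringKrullDim_quotient_succ_le_of_nonZeroDivisor (r := Ideal.Quotient.mk p x)
    (mem_nonZeroDivisors_of_ne_zero fun h => hx (Ideal.Quotient.eq_zero_iff_mem.1 h)))
  gcongr
  refine ringKrullDim_le_of_surjective
    (Ideal.Quotient.lift _ (Ideal.Quotient.factor (le_sup_left : p ≤ p ⊔ Ideal.span {x})) fun a ha => ?_)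
    fun a => ?_
  · obtain ⟨c, rfl⟩ := Ideal.mem_span_singleton'.1 ha
    rw [map_mul, Ideal.Quotient.factor_mk,
      Ideal.Quotient.eq_zero_iff_mem.2 (Ideal.mem_sup_right (Ideal.mem_span_singleton_self x)), mul_zero]
  · obtain ⟨a, rfl⟩ := Ideal.Quotient.mk_surjective a
    exact ⟨Ideal.Quotient.mk _ (Ideal.Quotient.mk p a), rfl⟩

theorem subsingleton_ext_of_dim_le (r : ℕ) :
    ∀ (N : Type u) [AddCommGroup N] [Module R N] [Module.Finite R N],
      Module.supportDim R N ≤ (r : WithBot ℕ∞) → ∀ i : ℕ, i + r < LocCoh.depth R M →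
        Subsingleton (Ext (ModuleCat.of R N) (ModuleCat.of R M) i) := by
  induction r using Nat.strong_induction_on with
  | _ r ih =>
  intro N _ _ _
  induction ‹Module.Finite R N› using IsNoetherianRing.induction_on_isQuotientEquivQuotientPrime R with
  | subsingleton N =>
    intro _ i _
    refine subsingleton_of_forall_eq 0 fun e => ?_
    rw [← Ext.mk₀_id_comp e, (ModuleCat.isZero_of_subsingleton (ModuleCat.of R N)).eq_of_src
      (𝟙 _) 0, Ext.mk₀_zero, Ext.zero_comp]
  | exact N₁ N₂ N₃ f g hf hg hfg h₁ h₃ =>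
    intro hdim i hi
    have H₁ := h₁ ((Module.supportDim_le_of_injective f hf).trans hdim) i hi
    have H₃ := h₃ ((Module.supportDim_le_of_surjective g hg).trans hdim) i hi
    let S : ShortComplex (ModuleCat.{u} R) :=
      ShortComplex.mk (ModuleCat.ofHom f) (ModuleCat.ofHom g)
        (ModuleCat.hom_ext (LinearMap.ext fun x => (hfg _).2 ⟨x, rfl⟩))
    have hS : S.ShortExact := ShortComplex.ShortExact.mk'
      ((ShortComplex.moduleCat_exact_iff _).2 fun x hx => (hfg x).1 hx)
      ((ModuleCat.mono_iff_injective _).2 hf) ((ModuleCat.epi_iff_surjective _).2 hg)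
    refine subsingleton_of_forall_eq 0 fun e => ?_
    obtain ⟨y, rfl⟩ := Ext.contravariant_sequence_exact₂ hS _ e (H₁.elim _ _)
    rw [H₃.elim y 0, Ext.comp_zero]
  | quotient N p e =>
    intro hdim i hi
    let a := p.asIdeal
    have hdim' : ringKrullDim (R ⧸ a) ≤ (r : WithBot ℕ∞) := by
      rw [← Module.supportDim_quotient_eq_ringKrullDim, ← Module.supportDim_eq_of_equiv e]
      exact hdim
    suffices h : Subsingleton (Ext (ModuleCat.of R (R ⧸ a)) (ModuleCat.of R M) i) by
      refine subsingleton_of_forall_eq 0 fun z => ?_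
      have : z = (Ext.mk₀ (ModuleCat.ofHom e.toLinearMap)).comp
          ((Ext.mk₀ (ModuleCat.ofHom e.symm.toLinearMap)).comp z (zero_add i)) (zero_add i) := by
        rw [Ext.mk₀_comp_mk₀_assoc]
        rw [show ModuleCat.ofHom e.toLinearMap ≫ ModuleCat.ofHom e.symm.toLinearMap = 𝟙 _ from
          ModuleCat.hom_ext (LinearMap.ext fun x => e.symm_apply_apply x), Ext.mk₀_id_comp]
      rw [this, h.elim ((Ext.mk₀ (ModuleCat.ofHom e.symm.toLinearMap)).comp z (zero_add i)) 0,
        Ext.comp_zero]
    by_cases hm : a = maximalIdeal R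
    · rw [hm]
      refine (le_idealDepth_iff_ext (maximalIdeal R) (i + 1)).1 ?_ i (Nat.lt_succ_self i)
      refine le_trans ?_ (Order.add_one_le_of_lt hi)
      exact_mod_cast Nat.succ_le_succ (Nat.le_add_right i r)
    obtain ⟨x, hxm, hxa⟩ : ∃ x ∈ maximalIdeal R, x ∉ a := SetLike.exists_of_lt
      (lt_of_le_of_ne (IsLocalRing.le_maximalIdeal p.2.ne_top) hm)
    let J := a ⊔ Ideal.span {x}
    haveI : Nontrivial (R ⧸ J) := Ideal.Quotient.nontrivial_iff.2 fun h =>
      (maximalIdeal.isMaximal R).ne_top (top_le_iff.1 (h.ge.trans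
        (sup_le (IsLocalRing.le_maximalIdeal p.2.ne_top) ((Ideal.span_singleton_le_iff_mem _).2 hxm))))
    have hJ := (ringKrullDim_quotient_sup_span_add_one_le a hxa).trans hdim'
    obtain ⟨r', rfl⟩ : ∃ r', r = r' + 1 := by
      refine ⟨r - 1, (Nat.sub_add_cancel ?_).symm⟩
      have h1 : (1 : WithBot ℕ∞) ≤ (r : WithBot ℕ∞) :=
        le_trans (by simpa using add_le_add_left (ringKrullDim_nonneg_of_nontrivial (R := R ⧸ J)) 1) hJ
      exact_mod_cast h1
    have hQ : Subsingleton (Ext (ModuleCat.of R (R ⧸ J)) (ModuleCat.of R M) (1 + i)) := by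
      refine ih r' (Nat.lt_succ_self r') (R ⧸ J) ?_ (1 + i) ?_
      · rw [Module.supportDim_quotient_eq_ringKrullDim]
        exact LC.le_of_add_one_le_add_one hJ
      · exact lt_of_eq_of_lt (by push_cast; ring) hi
    let μ : (R ⧸ a) →ₗ[R] (R ⧸ a) := x • LinearMap.id
    have hμ : Function.Injective μ := by
      rw [injective_iff_map_eq_zero]
      intro z hz
      obtain ⟨z, rfl⟩ := Submodule.Quotient.mk_surjective _ z
      have h1 : (Submodule.Quotient.mk (x * z) : R ⧸ a) = 0 := hz
      exact (Submodule.Quotient.mk_eq_zero a).2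
        ((p.2.mem_or_mem ((Submodule.Quotient.mk_eq_zero a).1 h1)).resolve_left hxa)
    have hex : Function.Exact μ (Submodule.factor (le_sup_left : a ≤ J)) := fun z => by
      obtain ⟨z, rfl⟩ := Submodule.Quotient.mk_surjective _ z
      constructor
      · intro h
        obtain ⟨u, hu, v, hv, rfl⟩ := Submodule.mem_sup.1 ((Submodule.Quotient.mk_eq_zero J).1 h)
        obtain ⟨c, rfl⟩ := Ideal.mem_span_singleton'.1 hv
        refine ⟨Submodule.Quotient.mk c, (Submodule.Quotient.eq a).2 ?_⟩
        rw [show x • c - (u + c * x) = -u by rw [smul_eq_mul]; ring]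
        exact neg_mem hu
      · rintro ⟨w, hw⟩
        obtain ⟨w, rfl⟩ := Submodule.Quotient.mk_surjective _ w
        rw [← hw]
        exact (Submodule.Quotient.mk_eq_zero J).2
          (Ideal.mem_sup_right (Ideal.mul_mem_right w _ (Ideal.mem_span_singleton_self x)))
    let S : ShortComplex (ModuleCat.{u} R) :=
      ShortComplex.mk (ModuleCat.ofHom μ) (ModuleCat.ofHom (Submodule.factor (le_sup_left : a ≤ J)))
        (ModuleCat.hom_ext (LinearMap.ext fun z => (hex _).2 ⟨z, rfl⟩))
    have hS : S.ShortExact := ShortComplex.ShortExact.mk'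
      ((ShortComplex.moduleCat_exact_iff _).2 fun z hz => (hex z).1 hz)
      ((ModuleCat.mono_iff_injective _).2 hμ)
      ((ModuleCat.epi_iff_surjective _).2 (Submodule.factor_surjective le_sup_left))
    let E := Ext (ModuleCat.of R (R ⧸ a)) (ModuleCat.of R M) i
    have hle : (⊤ : Submodule R E) ≤ Ideal.span {x} • (⊤ : Submodule R E) := fun e _ => by
      obtain ⟨y, hy⟩ := Ext.contravariant_sequence_exact₁ hS (ModuleCat.of R M) e rfl (hQ.elim _ _)
      have hxy : x • y = e := by
        rw [GrothLib.LC.smul_eq_mk₀_comp]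
        exact hy
      rw [← hxy]
      exact Submodule.smul_mem_smul (Ideal.mem_span_singleton_self x) Submodule.mem_top
    have hbot : (⊤ : Submodule R E) = ⊥ :=
      Submodule.eq_bot_of_le_smul_of_le_jacobson_bot _ _ Module.Finite.fg_top hle
        (((Ideal.span_singleton_le_iff_mem _).2 hxm).trans (maximalIdeal_le_jacobson _))
    exact subsingleton_of_forall_eq 0 fun e =>
      (Submodule.mem_bot R).1 (hbot ▸ Submodule.mem_top (x := e))

end GrothLib.Depth
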