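import Groth.Agent.Lib.Depth.Hartogs
import Groth.Agent.Lib.QCoh.Killed
import Groth.Agent.Lib.QCoh.FT
import Groth.Agent.Lib.WeakAss.Basic
import Groth.Prelude.Def_CAlg
import Mathlib.Tactic.LinearCombination
import Mathlib.Tactic.Module

/-!
Sections of a coherent module over an open containing all points where its depth is `≤ 1` extend
uniquely.
-/

universe u

open CategoryTheory AlgebraicGeometry TopologicalSpace Opposite RingTheory.Sequence Pointwise

namespace GrothLib.Depth.Mod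

open GrothLib.WeakAss GrothLib.QCoh

variable {X : Scheme.{u}} {F : X.Modules}

/-- Restriction of sections. -/
noncomputable abbrev mres {V W : X.Opens} (h : W ≤ V) (s : Γ(F, V)) : Γ(F, W) :=
  F.presheaf.map (homOfLE h).op s

theorem mres_mres {U V W : X.Opens} (h₁ : V ≤ U) (h₂ : W ≤ V) (s : Γ(F, U)) :
    mres h₂ (mres h₁ s) = mres (h₂.trans h₁) s :=
  Cohom.map_map_apply F _ _ s

theorem germ_mres {V W : X.Opens} (h : W ≤ V) (y : X) (hy : y ∈ W) (s : Γ(F, V)) :
    F.presheaf.germ W y hy (mres h s) = F.presheaf.germ V y (h hy) s :=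
  TopCat.Presheaf.germ_res_apply _ _ _ _ _

theorem mres_smul {V W : X.Opens} (h : W ≤ V) (r : Γ(X, V)) (s : Γ(F, V)) :
    mres h (r • s) = res h r • mres h s :=
  F.map_smul _ r s

theorem res_pow {V W : X.Opens} (h : W ≤ V) (r : Γ(X, V)) (n : ℕ) : res h (r ^ n) = res h r ^ n :=
  map_pow _ r n

/-- `a, b` is a regular pair on `N`, without the properness condition. -/
def RegPair {A N : Type*} [CommRing A] [AddCommGroup N] [Module A N] (a b : A) : Prop :=
  (∀ m : N, a • m = 0 → m = 0) ∧ ∀ y : N, (∃ z, b • y = a • z) → ∃ z, y = a • z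

theorem pow_smul_eq_zero {A N : Type*} [CommRing A] [AddCommGroup N] [Module A N] {a : A}
    (ha : ∀ m : N, a • m = 0 → m = 0) : ∀ (k : ℕ) (m : N), a ^ k • m = 0 → m = 0 := by
  intro k
  induction k with
  | zero => intro m hm; simpa using hm
  | succ k ih => intro m hm; exact ha m (ih _ (by rwa [← mul_smul, ← pow_succ]))

theorem RegPair.pow {A N : Type*} [CommRing A] [AddCommGroup N] [Module A N] {a b : A}
    (h : RegPair (N := N) a b) (n : ℕ) : ∀ (k : ℕ) (y : N),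
      (∃ z, b ^ k • y = a ^ n • z) → ∃ z, y = a ^ n • z := by
  induction n with
  | zero => intro k y _; exact ⟨y, by simp⟩
  | succ n ih =>
    intro k y ⟨c, hc⟩
    have hb' : ∀ (j : ℕ) (z : N), (∃ w, b ^ j • z = a • w) → ∃ w, z = a • w := by
      intro j
      induction j with
      | zero => intro z ⟨w, hw⟩; exact ⟨w, by simpa using hw⟩
      | succ j ihj =>
        intro z ⟨w, hw⟩
        exact h.2 z (ihj (b • z) ⟨w, by rwa [← mul_smul, ← pow_succ]⟩ |>.imp fun _ => id)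
    obtain ⟨y', rfl⟩ := hb' k y ⟨a ^ n • c, by rw [hc, ← mul_smul, ← pow_succ']⟩
    have h1 : b ^ k • y' = a ^ n • c := by
      rw [← sub_eq_zero]
      refine h.1 _ ?_
      rw [smul_sub, ← mul_smul, ← mul_smul, mul_comm a, mul_smul, hc, ← pow_succ', sub_self]
    obtain ⟨d, rfl⟩ := ih k y' ⟨c, h1⟩
    exact ⟨d, by rw [← mul_smul, ← pow_succ']⟩

theorem isUnit_res_basicOpen {W : X.Opens} (g : Γ(X, W)) : IsUnit (res (X.basicOpen_le g) g) :=
  RingedSpace.isUnit_res_basicOpen _ g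

theorem isUnit_germ {W : X.Opens} {y : X} (hy : y ∈ W) {c : Γ(X, W)} (hc : c ∉ primeAt y hy) :
    IsUnit (X.presheaf.germ W y hy c) :=
  (Scheme.mem_basicOpen _ c y hy).mp (notMem_primeAt_iff.mp hc)

variable [F.IsQuasicoherent]

theorem germ_regular {W : X.Opens} (hW : IsAffineOpen W) {a : Γ(X, W)}
    (ha : ∀ m : Γ(F, W), a • m = 0 → m = 0) {y : X} (hy : y ∈ W) (v : F.presheaf.stalk y)
    (hv : X.presheaf.germ W y hy a • v = 0) : v = 0 := by
  obtain ⟨c, z, hc, hz⟩ := exists_smul_eq_germ hW hy v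
  refine (isUnit_germ hy hc).smul_eq_zero.mp (hz.trans ?_)
  obtain ⟨c', hc', h⟩ := (germ_eq_zero_iff hW hy (a • z)).mp (by
    rw [WeakAss.germ_smul, ← hz, smul_comm, hv, smul_zero])
  exact (germ_eq_zero_iff hW hy z).mpr ⟨c', hc', ha _ (by rw [smul_comm]; exact h)⟩

theorem eq_zero_of_germ_basicOpen {W O : X.Opens} (hW : IsAffineOpen W) {a : Γ(X, W)}
    (ha : ∀ m : Γ(F, W), a • m = 0 → m = 0) (hOW : O ≤ W) {d : Γ(F, O)}
    (h : ∀ (y : X) (hy : y ∈ O), y ∈ X.basicOpen a → F.presheaf.germ O y hy d = 0) : d = 0 := by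
  refine section_eq_zero_of_germ F d fun y hy => ?_
  obtain ⟨W', hW', hyW', hle⟩ : ∃ W' : X.Opens, IsAffineOpen W' ∧ y ∈ W' ∧ W' ≤ O := by
    obtain ⟨_, ⟨W', hW', rfl⟩, hyW', hle⟩ := X.isBasis_affineOpens.exists_subset_of_mem_open hy O.2
    exact ⟨W', hW', hyW', hle⟩
  let a' := res (hle.trans hOW) a
  have hD : F.presheaf.map (homOfLE (X.basicOpen_le a')).op (mres hle d) = 0 := by
    refine section_eq_zero_of_germ F _ fun z hz => ?_
    have hz' : z ∈ X.basicOpen a' := hz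
    simp only [a', res, Scheme.basicOpen_res] at hz'
    rw [germ_map, germ_mres]
    exact h z _ hz'.2
  obtain ⟨n, hn⟩ := (smulLift_and_smulSep_of_isAffineOpen hW' F a').2 _ hD
  have hg := congrArg (F.presheaf.germ W' y hyW') hn
  rw [WeakAss.germ_smul, map_zero, map_pow, germ_res, germ_mres] at hg
  exact pow_smul_eq_zero (fun v hv => germ_regular hW ha (hOW hy) v hv) n _ hg

variable [IsLocallyNoetherian X]

/-- A regular pair at a point spreads to a basic neighbourhood. -/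
theorem exists_regPair {W₁ : X.Opens} (hW₁ : IsAffineOpen W₁) [Module.Finite Γ(X, W₁) Γ(F, W₁)]
    {x : X} (hx : x ∈ W₁) (a b : Γ(X, W₁))
    (h : RegPair (N := F.presheaf.stalk x) (X.presheaf.germ W₁ x hx a) (X.presheaf.germ W₁ x hx b)) :
    ∃ g : Γ(X, W₁), x ∈ X.basicOpen g ∧
      RegPair (N := Γ(F, X.basicOpen g)) (res (X.basicOpen_le g) a) (res (X.basicOpen_le g) b) := by
  classical
  have := IsLocallyNoetherian.component_noetherian (X := X) ⟨W₁, hW₁⟩
  let S : Submodule Γ(X, W₁) Γ(F, W₁) := LinearMap.range (LinearMap.lsmul Γ(X, W₁) Γ(F, W₁) a)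
  let K : Submodule Γ(X, W₁) Γ(F, W₁) := LinearMap.ker (LinearMap.lsmul Γ(X, W₁) Γ(F, W₁) a)
  let L : Submodule Γ(X, W₁) Γ(F, W₁) := S.comap (LinearMap.lsmul Γ(X, W₁) Γ(F, W₁) b)
  obtain ⟨genK, hgenK⟩ := IsNoetherian.noetherian K
  obtain ⟨genL, hgenL⟩ := IsNoetherian.noetherian L
  have kK : ∀ m ∈ genK, ∃ c, c ∉ primeAt x hx ∧ c • m = 0 := fun m hm => by
    have hm' : a • m = 0 := LinearMap.mem_ker.mp (hgenK.le (Submodule.subset_span hm))
    exact (germ_eq_zero_iff hW₁ hx m).mp (h.1 _ (by rw [← WeakAss.germ_smul, hm', map_zero]))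
  have kL : ∀ m ∈ genL, ∃ c, c ∉ primeAt x hx ∧ c • m ∈ S := fun m hm => by
    obtain ⟨z, hz⟩ : ∃ z, a • z = b • m := hgenL.le (Submodule.subset_span hm)
    obtain ⟨v, hv⟩ := h.2 (F.presheaf.germ W₁ x hx m) ⟨F.presheaf.germ W₁ x hx z, by
      rw [← WeakAss.germ_smul, ← WeakAss.germ_smul, hz]⟩
    obtain ⟨c₀, w, hc₀, hw⟩ := exists_smul_eq_germ hW₁ hx v
    obtain ⟨c₁, hc₁, h1⟩ := (germ_eq_zero_iff hW₁ hx (c₀ • m - a • w)).mp (by
      rw [map_sub, WeakAss.germ_smul, WeakAss.germ_smul, ← hw, hv, smul_comm, sub_self])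
    refine ⟨c₁ * c₀, fun hc => ((inferInstance : (primeAt x hx).IsPrime).mem_or_mem hc).elim hc₁ hc₀,
      c₁ • w, ?_⟩
    rw [smul_sub, sub_eq_zero] at h1
    show a • c₁ • w = (c₁ * c₀) • m
    rw [mul_smul, h1, smul_comm]
  choose cK hcK hcK' using kK
  choose cL hcL hcL' using kL
  let g := (∏ m ∈ genK.attach, cK m.1 m.2) * ∏ m ∈ genL.attach, cL m.1 m.2
  have hg : g ∉ primeAt x hx := fun hg => by
    rcases (inferInstance : (primeAt x hx).IsPrime).mem_or_mem hg with hg | hg <;>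
      obtain ⟨m, -, hm⟩ := Ideal.IsPrime.prod_mem_iff.mp hg
    exacts [hcK _ _ hm, hcL _ _ hm]
  have hgK : ∀ m ∈ K, g • m = 0 := fun m hm => by
    rw [← hgenK] at hm
    induction hm using Submodule.span_induction with
    | mem m hm =>
      simp only [g]
      rw [← Finset.prod_erase_mul _ _ (Finset.mem_attach genK ⟨m, hm⟩), mul_right_comm, mul_smul, hcK' m hm,
        smul_zero]
    | zero => exact smul_zero _
    | add p q _ _ hp hq => rw [smul_add, hp, hq, add_zero]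
    | smul r p _ hp => rw [smul_comm, hp, smul_zero]
  have hgL : ∀ m ∈ L, g • m ∈ S := fun m hm => by
    rw [← hgenL] at hm
    induction hm using Submodule.span_induction with
    | mem m hm =>
      simp only [g]
      rw [← Finset.prod_erase_mul _ _ (Finset.mem_attach genL ⟨m, hm⟩), ← mul_assoc, mul_smul]
      exact S.smul_mem _ (hcL' m hm)
    | zero => rw [smul_zero]; exact S.zero_mem
    | add p q _ _ hp hq => rw [smul_add]; exact S.add_mem hp hq
    | smul r p _ hp => rw [smul_comm]; exact S.smul_mem _ hp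
  refine ⟨g, notMem_primeAt_iff.mp hg, ?_⟩
  obtain ⟨hl, hs⟩ := smulLift_and_smulSep_of_isAffineOpen hW₁ F g
  set u := res (X.basicOpen_le g) g
  have hu : IsUnit u := isUnit_res_basicOpen g
  refine ⟨fun m hm => ?_, fun y ⟨z, hz⟩ => ?_⟩
  · obtain ⟨n, t, ht⟩ := hl m
    replace ht : mres (X.basicOpen_le g) t = u ^ n • m := ht
    obtain ⟨k, hk⟩ := hs (a • t) (by
      change mres (X.basicOpen_le g) (a • t) = 0
      rw [mres_smul, ht, smul_comm, hm, smul_zero])
    have h0 : g • g ^ k • t = 0 := hgK _ (LinearMap.mem_ker.mpr (show a • g ^ k • t = 0 by rw [smul_comm, hk]))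
    have := congrArg (mres (X.basicOpen_le g)) h0
    rw [mres_smul, mres_smul, res_pow, ht] at this
    change _ = F.presheaf.map (homOfLE _).op (0 : Γ(F, W₁)) at this
    rw [map_zero] at this
    exact (hu.pow n).smul_eq_zero.mp ((hu.pow k).smul_eq_zero.mp (hu.smul_eq_zero.mp this))
  · obtain ⟨n, t, ht⟩ := hl y
    obtain ⟨l, t', ht'⟩ := hl z
    replace ht : mres (X.basicOpen_le g) t = u ^ n • y := ht
    replace ht' : mres (X.basicOpen_le g) t' = u ^ l • z := ht'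
    obtain ⟨k, hk⟩ := hs (b • g ^ l • t - a • g ^ n • t') (by
      change mres (X.basicOpen_le g) (b • g ^ l • t - a • g ^ n • t') = 0
      rw [mres, map_sub, sub_eq_zero]
      change mres _ (b • g ^ l • t) = mres _ (a • g ^ n • t')
      rw [mres_smul, mres_smul, mres_smul, mres_smul, res_pow, res_pow, ht, ht',
        smul_smul (res _ g ^ l), smul_comm, hz, smul_smul, smul_smul, smul_smul]
      congr 1
      simp only [u]
      ring)
    rw [smul_sub, sub_eq_zero] at hk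
    obtain ⟨w, hw⟩ := hgL (g ^ k • g ^ l • t) ⟨g ^ k • g ^ n • t', by
      change a • g ^ k • g ^ n • t' = b • g ^ k • g ^ l • t
      rw [smul_comm a, ← hk, smul_comm b (g ^ k)]⟩
    replace hw : a • w = g • g ^ k • g ^ l • t := hw
    have := congrArg (mres (X.basicOpen_le g)) hw
    rw [mres_smul, mres_smul, mres_smul, mres_smul, res_pow, res_pow, ht, smul_smul, smul_smul, smul_smul]
      at this
    obtain ⟨v, hv⟩ := ((hu.mul (hu.pow k)).mul (hu.pow l)).mul (hu.pow n)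
    refine ⟨(↑v⁻¹ : Γ(X, X.basicOpen g)) • mres (X.basicOpen_le g) w, ?_⟩
    rw [smul_comm, this, ← hv, smul_smul, Units.inv_mul, one_smul]

theorem exists_nice_nhd (hF : Coh.IsCoh F) (C : Set X) (hC : IsClosed C) {x : X}
    (hmax : ∀ y ∈ C, y ⤳ x → y = x)
    (hdepth : (2 : ℕ∞) ≤ LocCoh.depth (X.presheaf.stalk x) (F.presheaf.stalk x))
    {V : X.Opens} (hxV : x ∈ V) :
    ∃ W : X.Opens, IsAffineOpen W ∧ W ≤ V ∧ x ∈ W ∧ ∃ a b : Γ(X, W),
      RegPair (N := Γ(F, W)) a b ∧ ∀ y ∈ C, y ∉ X.basicOpen a ∧ y ∉ X.basicOpen b := by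
  obtain ⟨_, ⟨W₀, hW₀, rfl⟩, hxW₀, hW₀V⟩ := X.isBasis_affineOpens.exists_subset_of_mem_open hxV V.2
  let W₀ : X.Opens := W₀
  have hW₀ : IsAffineOpen W₀ := hW₀
  have : IsNoetherianRing Γ(X, W₀) := IsLocallyNoetherian.component_noetherian ⟨W₀, hW₀⟩
  have : IsAffine W₀.toScheme := hW₀
  have : IsNoetherian W₀.toScheme := by
    have : CompactSpace W₀.toScheme := isCompact_iff_compactSpace.mp hW₀.isCompact
    exact {}
  obtain ⟨T, hTf, hTi, hT⟩ := NoetherianSpace.exists_finite_set_closeds_irreducible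
    (⟨W₀.ι ⁻¹' C, hC.preimage W₀.ι.continuous⟩ : Closeds W₀.toScheme)
  let bad : Set X := ⋃ t ∈ {t ∈ T | x ∉ closure (W₀.ι '' (t : Set W₀.toScheme))},
    closure (W₀.ι '' (t : Set W₀.toScheme))
  have hbad : IsClosed bad := (hTf.subset (Set.sep_subset _ _)).isClosed_biUnion fun _ _ => isClosed_closure
  have hxbad : x ∉ bad := fun h => by
    obtain ⟨t, ht, hxt⟩ := Set.mem_iUnion₂.mp h
    exact ht.2 hxt
  obtain ⟨_, ⟨W₁, hW₁, rfl⟩, hxW₁, hW₁sub⟩ := X.isBasis_affineOpens.exists_subset_of_mem_open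
    (show x ∈ (W₀ : Set X) ∩ badᶜ from ⟨hxW₀, hxbad⟩) (W₀.2.inter hbad.isOpen_compl)
  let W₁ : X.Opens := W₁
  have hW₁ : IsAffineOpen W₁ := hW₁
  have hC₁ : ∀ y ∈ C, y ∈ W₁ → x ⤳ y := by
    intro y hyC hy
    obtain ⟨y₀, rfl⟩ : y ∈ Set.range W₀.ι := by rw [Scheme.Opens.range_ι]; exact (hW₁sub hy).1
    obtain ⟨t, htT, hyt⟩ : ∃ t ∈ T, y₀ ∈ (t : Set W₀.toScheme) := by
      have h1 : y₀ ∈ ((⟨W₀.ι ⁻¹' C, hC.preimage W₀.ι.continuous⟩ : Closeds W₀.toScheme) : Set W₀.toScheme) := hyC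
      rw [hT, Closeds.coe_sSup] at h1
      have hcl : IsClosed (⋃ t ∈ T, (t : Set W₀.toScheme)) := hTf.isClosed_biUnion fun t _ => t.isClosed
      rw [Set.sUnion_image, hcl.closure_eq] at h1
      simpa using h1
    obtain ⟨η, hη⟩ := QuasiSober.sober (hTi t htT) t.isClosed
    have hηC : W₀.ι η ∈ C := by
      have h2 : t ≤ (⟨W₀.ι ⁻¹' C, hC.preimage W₀.ι.continuous⟩ : Closeds W₀.toScheme) := hT ▸ le_sSup htT
      exact h2 hη.mem
    by_cases hx : x ∈ closure (W₀.ι '' (t : Set W₀.toScheme))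
    · have h3 : closure (W₀.ι '' (t : Set W₀.toScheme)) = closure {W₀.ι η} := by
        rw [← hη.def, closure_image_closure W₀.ι.continuous, Set.image_singleton]
      rw [h3] at hx
      obtain rfl := hmax _ hηC (specializes_iff_mem_closure.mpr hx)
      exact (hη.specializes hyt).map W₀.ι.continuous
    · have hbad' : W₀.ι y₀ ∈ bad :=
        Set.mem_iUnion₂.mpr ⟨t, show t ∈ {t ∈ T | _} from ⟨htT, hx⟩, subset_closure ⟨y₀, hyt, rfl⟩⟩
      exact absurd hbad' (hW₁sub hy).2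
  have hW₁V : W₁ ≤ V := fun z hz => hW₀V (hW₁sub hz).1
  let A := X.presheaf.stalk x
  let M := F.presheaf.stalk x
  by_cases hsupp : x ∈ CohB1.support F
  swap
  · obtain ⟨_, ⟨W, hW, rfl⟩, hxW, hWsub⟩ := X.isBasis_affineOpens.exists_subset_of_mem_open
      (show x ∈ (W₁ : Set X) ∩ (CohB1.support F)ᶜ from ⟨hxW₁, hsupp⟩)
      (W₁.2.inter (isClosed_support F hF.2).isOpen_compl)
    have hz : ∀ m : Γ(F, W), m = 0 := fun m => section_eq_zero_of_germ F m fun z hz =>
      @Subsingleton.elim _ (not_not.mp (hWsub hz).2) _ _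
    refine ⟨W, hW, fun z hz => hW₁V (hWsub hz).1, hxW, 0, 0, ⟨fun m _ => hz m, fun y _ => ⟨0, by rw [smul_zero, hz y]⟩⟩,
      fun y _ => by simp⟩
  have := moduleFinite_of_isFiniteType F hF.2 hW₁
  have : Nontrivial M := not_subsingleton_iff_nontrivial.mp hsupp
  have hne : IsLocalRing.maximalIdeal A • (⊤ : Submodule A M) ≠ ⊤ := by
    intro heq
    obtain ⟨S, hS⟩ := (moduleFinite_of_isFiniteType F hF.2 hW₁).fg_top
    have hfg : (⊤ : Submodule A M).FG := by
      classical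
      refine ⟨S.image (F.presheaf.germ W₁ x hxW₁), eq_top_iff.mpr fun e _ => ?_⟩
      obtain ⟨c, w, hc, hw⟩ := exists_smul_eq_germ hW₁ hxW₁ e
      refine (Submodule.smul_mem_iff_of_isUnit _ (isUnit_germ hxW₁ hc)).mp ?_
      rw [hw]
      have hwS : w ∈ Submodule.span Γ(X, W₁) (S : Set Γ(F, W₁)) := hS.symm ▸ trivial
      clear hw
      induction hwS using Submodule.span_induction with
      | mem a ha => exact Submodule.subset_span (Finset.mem_coe.mpr (Finset.mem_image_of_mem _ ha))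
      | zero => rw [map_zero]; exact Submodule.zero_mem _
      | add a b _ _ ha hb => rw [map_add]; exact Submodule.add_mem _ ha hb
      | smul r a _ ha => rw [WeakAss.germ_smul]; exact Submodule.smul_mem _ _ ha
    exact top_ne_bot (Submodule.eq_bot_of_le_smul_of_le_jacobson_bot _ _ hfg heq.ge
      (IsLocalRing.maximalIdeal_le_jacobson ⊥))
  obtain ⟨rs, hlen, hmem, hreg⟩ := (le_idealDepth_iff_exists _ hne 2).mp hdepth
  obtain ⟨α, β, rfl⟩ := List.length_eq_two.mp hlen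
  rw [isWeaklyRegular_cons_iff, isWeaklyRegular_cons_iff] at hreg
  obtain ⟨hrα, hrβ, -⟩ := hreg
  have hpair : RegPair (N := M) α β := by
    refine ⟨fun m hm => hrα (hm.trans (smul_zero α).symm), fun y ⟨z, hz⟩ => ?_⟩
    have hy : y ∈ α • (⊤ : Submodule A M) := by
      rw [← Submodule.Quotient.mk_eq_zero]
      refine hrβ.right_eq_zero_of_smul ?_
      rw [← Submodule.Quotient.mk_smul, Submodule.Quotient.mk_eq_zero, hz]
      exact Submodule.smul_mem_pointwise_smul z α ⊤ trivial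
    obtain ⟨w, -, rfl⟩ := (Submodule.mem_smul_pointwise_iff_exists _ _ _).mp hy
    exact ⟨w, rfl⟩
  let alg : Algebra Γ(X, W₁) A := TopCat.Presheaf.algebra_section_stalk X.presheaf (⟨x, hxW₁⟩ : W₁)
  let p := (hW₁.primeIdealOf ⟨x, hxW₁⟩).asIdeal
  have hloc : IsLocalization.AtPrime A p := hW₁.isLocalization_stalk ⟨x, hxW₁⟩
  obtain ⟨⟨a, c⟩, hac⟩ := IsLocalization.surj p.primeCompl α
  obtain ⟨⟨b, c'⟩, hbc⟩ := IsLocalization.surj p.primeCompl β
  have hu : IsUnit (algebraMap Γ(X, W₁) A c.1) := IsLocalization.map_units A c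
  have hu' : IsUnit (algebraMap Γ(X, W₁) A c'.1) := IsLocalization.map_units A c'
  have ea : X.presheaf.germ W₁ x hxW₁ a = α * algebraMap Γ(X, W₁) A c.1 := hac.symm
  have eb : X.presheaf.germ W₁ x hxW₁ b = β * algebraMap Γ(X, W₁) A c'.1 := hbc.symm
  obtain ⟨g, hxg, hg⟩ := exists_regPair (F := F) hW₁ hxW₁ a b (by
    rw [ea, eb]
    refine ⟨fun m hm => hu.smul_eq_zero.mp (hpair.1 _ (by rwa [smul_smul])), fun y ⟨z, hz⟩ => ?_⟩
    obtain ⟨w, hw⟩ := hpair.2 (algebraMap Γ(X, W₁) A c'.1 • y) ⟨algebraMap Γ(X, W₁) A c.1 • z, by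
      rw [smul_smul, hz, smul_smul]⟩
    obtain ⟨v, hv⟩ := hu.mul hu'
    refine ⟨(↑v⁻¹ : A) • w, ?_⟩
    calc y = (↑v⁻¹ : A) • (↑v : A) • y := by rw [smul_smul, Units.inv_mul, one_smul]
      _ = (↑v⁻¹ : A) • (algebraMap Γ(X, W₁) A c.1 • α • w) := by rw [hv, mul_smul, hw]
      _ = _ := by rw [smul_smul, smul_smul, smul_smul]; congr 1; ring)
  have hnot : ∀ (γ : A) (d : Γ(X, W₁)) (e : Γ(X, W₁)), γ ∈ IsLocalRing.maximalIdeal A →
      X.presheaf.germ W₁ x hxW₁ d = γ * algebraMap Γ(X, W₁) A e →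
      ∀ y ∈ C, y ∉ X.basicOpen (res (X.basicOpen_le g) d) := by
    intro γ d e hγ hd y hyC hy
    rw [Scheme.basicOpen_res] at hy
    have hxy := hC₁ y hyC (X.basicOpen_le g hy.1)
    have hx1 : x ∈ X.basicOpen d := hxy.mem_open (X.basicOpen d).2 hy.2
    have h4 := (Scheme.mem_basicOpen _ _ x hxW₁).1 hx1
    rw [hd] at h4
    exact (IsLocalRing.mem_maximalIdeal _).mp hγ (isUnit_of_mul_isUnit_left h4)
  exact ⟨X.basicOpen g, hW₁.basicOpen g, (X.basicOpen_le g).trans hW₁V, hxg, _, _, hg, fun y hy =>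
    ⟨hnot α a c.1 (hmem α (by simp)) ea y hy, hnot β b c'.1 (hmem β (by simp)) eb y hy⟩⟩

variable {U : X.Opens} (hF : Coh.IsCoh F)
  (hU : ∀ x : X, x ∉ U → (2 : ℕ∞) ≤ LocCoh.depth (X.presheaf.stalk x) (F.presheaf.stalk x))
include hF hU

theorem mres_injective (V : X.Opens) : Function.Injective (mres (F := F) (inf_le_left : V ⊓ U ≤ V)) := by
  intro s t hst
  rw [← sub_eq_zero]
  set d := s - t
  have hd : mres (inf_le_left : V ⊓ U ≤ V) d = 0 := by
    simp only [d, mres, map_sub]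
    exact sub_eq_zero.mpr hst
  refine section_eq_zero_of_germ F d fun y hy => ?_
  let Z : Set X := {z | ∃ hz : z ∈ V, F.presheaf.germ V z hz d ≠ 0}
  have hZ : ∀ z, z ∈ closure Z → z ∈ V → z ∈ Z := by
    intro z hz hzV
    by_contra hne
    have heq : F.presheaf.germ V z hzV d = 0 := not_not.mp fun h => hne ⟨hzV, h⟩
    obtain ⟨W, hzW, iU, iV, hW⟩ := TopCat.Presheaf.germ_eq F.presheaf z hzV hzV d 0
      (heq.trans (map_zero _).symm)
    rw [map_zero] at hW
    obtain ⟨z', hz'W, hz'V, hz'⟩ := mem_closure_iff.mp hz W W.2 hzW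
    exact hz' ((TopCat.Presheaf.germ_res_apply _ iU _ hz'W d).symm.trans
      ((congrArg _ hW).trans (map_zero _)))
  have hZU : ∀ z ∈ Z, z ∉ U := by
    rintro z ⟨hzV, hz⟩ hzU
    exact hz (by rw [← germ_mres inf_le_left z ⟨hzV, hzU⟩ d, hd, map_zero])
  by_contra hne
  obtain ⟨x, hxC, hxy, hxmax⟩ := exists_maximal_generalization (C := closure Z) isClosed_closure
    (x₀ := y) (subset_closure ⟨hy, hne⟩)
  have hxV : x ∈ V := hxy.mem_open V.2 hy
  obtain ⟨hxV, hxne⟩ := hZ x hxC hxV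
  obtain ⟨W, hW, hWV, hxW, a, b, hab, hC⟩ :=
    exists_nice_nhd hF (closure Z) isClosed_closure hxmax (hU x (hZU x ⟨hxV, hxne⟩)) hxV
  refine hxne ?_
  have h0 : mres hWV d = 0 := eq_zero_of_germ_basicOpen hW hab.1 le_rfl (fun z hzW hza => by
    rw [germ_mres]
    by_contra h
    exact (hC z (subset_closure ⟨hWV hzW, h⟩)).1 hza)
  rw [← germ_mres hWV x hxW d, h0, map_zero]

theorem mres_surjective (V : X.Opens) : Function.Surjective (mres (F := F) (inf_le_left : V ⊓ U ≤ V)) := by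
  intro s
  let P := Σ' (W : X.Opens) (hW : W ≤ V), {t : Γ(F, W) //
    mres (inf_le_left : W ⊓ U ≤ W) t = mres (inf_le_inf_right U hW) s}
  let Wf : P → X.Opens := fun i => i.1
  let tf : ∀ i : P, Γ(F, Wf i) := fun i => i.2.2.1
  have hcompat : TopCat.Presheaf.IsCompatible (C := Ab.{u}) F.presheaf Wf tf := by
    intro i j
    apply mres_injective hF hU (Wf i ⊓ Wf j)
    show mres inf_le_left (mres inf_le_left (tf i)) = mres inf_le_left (mres inf_le_right (tf j))
    rw [mres_mres, mres_mres]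
    have h1 := congrArg (mres (inf_le_inf_right U (inf_le_left : Wf i ⊓ Wf j ≤ Wf i))) i.2.2.2
    have h2 := congrArg (mres (inf_le_inf_right U (inf_le_right : Wf i ⊓ Wf j ≤ Wf j))) j.2.2.2
    rw [mres_mres, mres_mres] at h1 h2
    exact h1.trans h2.symm
  let Vs : X.Opens := iSup Wf
  let Sh : TopCat.Sheaf Ab.{u} X.carrier := ⟨F.presheaf, F.isSheaf⟩
  obtain ⟨T₀, hT, -⟩ := Sh.existsUnique_gluing' Wf Vs
    (fun i => homOfLE (le_iSup Wf i)) le_rfl tf hcompat
  let T : Γ(F, Vs) := T₀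
  have hT' : ∀ i : P, mres (le_iSup Wf i) T = tf i := hT
  clear_value T
  let i₀ : P := ⟨V ⊓ U, inf_le_left, ⟨s, rfl⟩⟩
  have hi₀ : V ⊓ U ≤ Vs := le_iSup Wf i₀
  by_cases hall : V ≤ Vs
  · exact ⟨mres hall T, (mres_mres _ _ _).trans (hT' i₀)⟩
  exfalso
  obtain ⟨y, hyV, hyVs⟩ := Set.not_subset.mp hall
  obtain ⟨x, hxC, hxy, hxmax⟩ := exists_maximal_generalization (C := (Vs : Set X)ᶜ)
    Vs.2.isClosed_compl (x₀ := y) hyVs
  have hxV : x ∈ V := hxy.mem_open V.2 hyV
  obtain ⟨W, hW, hWV, hxW, a, b, hab, hC⟩ := exists_nice_nhd hF (Vs : Set X)ᶜ Vs.2.isClosed_compl hxmax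
    (hU x fun h => hxC (hi₀ ⟨hxV, h⟩)) hxV
  have hDa : X.basicOpen a ≤ Vs := fun z hz => by
    by_contra h; exact (hC z h).1 hz
  have hDb : X.basicOpen b ≤ Vs := fun z hz => by
    by_contra h; exact (hC z h).2 hz
  obtain ⟨n, p, hp⟩ := (smulLift_and_smulSep_of_isAffineOpen hW F a).1 (mres hDa T)
  obtain ⟨m, q, hq⟩ := (smulLift_and_smulSep_of_isAffineOpen hW F b).1 (mres hDb T)
  replace hp : mres (X.basicOpen_le a) p = res (X.basicOpen_le a) a ^ n • mres hDa T := hp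
  replace hq : mres (X.basicOpen_le b) q = res (X.basicOpen_le b) b ^ m • mres hDb T := hq
  have hle1 : X.basicOpen (a * b) ≤ X.basicOpen a := (X.basicOpen_mul a b).le.trans inf_le_left
  have hle2 : X.basicOpen (a * b) ≤ X.basicOpen b := (X.basicOpen_mul a b).le.trans inf_le_right
  obtain ⟨k, hk⟩ := (smulLift_and_smulSep_of_isAffineOpen hW F (a * b)).2 (b ^ m • p - a ^ n • q) (by
    have h1 := congrArg (mres hle1) hp
    have h2 := congrArg (mres hle2) hq
    rw [mres_mres, mres_smul, mres_mres, res_pow, res_res] at h1 h2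
    change mres (X.basicOpen_le (a * b)) _ = 0
    rw [mres, map_sub, sub_eq_zero]
    change mres _ (b ^ m • p) = mres _ (a ^ n • q)
    rw [mres_smul, mres_smul, res_pow, res_pow, h1, h2, smul_comm])
  have h3 : b ^ k • (b ^ m • p - a ^ n • q) = 0 :=
    pow_smul_eq_zero hab.1 k _ (by rw [smul_smul, ← mul_pow]; exact hk)
  rw [smul_sub, sub_eq_zero, smul_smul, smul_comm (b ^ k) (a ^ n), ← pow_add] at h3
  obtain ⟨c, hc⟩ := hab.pow n (k + m) p ⟨b ^ k • q, h3⟩
  have hcT : mres (X.basicOpen_le a) c = mres hDa T := by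
    refine ((isUnit_res_basicOpen a).pow n).smul_left_cancel.mp ?_
    rw [← hp, hc, mres_smul, res_pow]
  have hcs : mres (inf_le_left : W ⊓ U ≤ W) c = mres (inf_le_inf_right U hWV) s := by
    rw [← sub_eq_zero]
    refine eq_zero_of_germ_basicOpen hW hab.1 inf_le_left fun z hz hza => ?_
    have h4 : mres hi₀ T = s := hT' i₀
    rw [map_sub, sub_eq_zero, germ_mres, germ_mres, ← h4, germ_mres,
      ← germ_mres (X.basicOpen_le a) z hza c, hcT, germ_mres]
  exact hxC (le_iSup Wf ⟨W, hWV, ⟨c, hcs⟩⟩ hxW)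

theorem mres_bijective (V : X.Opens) : Function.Bijective (mres (F := F) (inf_le_left : V ⊓ U ≤ V)) :=
  ⟨mres_injective hF hU V, mres_surjective hF hU V⟩

end GrothLib.Depth.Mod
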