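import Groth.Agent.Lib.Depth.Hartogs
import Groth.Agent.Lib.QuasiFlat.Basic
import Groth.Agent.Lib.WeakAss.Basic
import Groth.Agent.Lib.QCoh.FT
import Groth.Agent.Lib.FlatFP.Sheaf

/-!
Sections of coherent modules extend uniquely over points of depth `≥ 2`.
-/

universe u

open CategoryTheory AlgebraicGeometry TopologicalSpace Opposite RingTheory.Sequence

namespace GrothLib.Depth

open GrothLib.WeakAss (primeAt notMem_primeAt_iff)

variable {X : Scheme.{u}}

/-- Near a maximal point of a closed set all points of the set are its specialisations. -/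
theorem exists_nhd_specializes [IsLocallyNoetherian X] (C : Set X) (hC : IsClosed C) {x : X}
    (hmax : ∀ y ∈ C, y ⤳ x → y = x) {V : X.Opens} (hxV : x ∈ V) :
    ∃ W : X.Opens, IsAffineOpen W ∧ W ≤ V ∧ x ∈ W ∧ ∀ y ∈ C, y ∈ W → x ⤳ y := by
  obtain ⟨_, ⟨W₀, hW₀, rfl⟩, hxW₀, hW₀V⟩ := X.isBasis_affineOpens.exists_subset_of_mem_open hxV V.2
  let W₀ : X.Opens := W₀
  have hW₀ : IsAffineOpen W₀ := hW₀
  have : IsNoetherianRing Γ(X, W₀) := IsLocallyNoetherian.component_noetherian ⟨W₀, hW₀⟩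
  have : IsAffine W₀.toScheme := hW₀
  have : IsNoetherian W₀.toScheme := by
    have : CompactSpace W₀.toScheme := isCompact_iff_compactSpace.mp hW₀.isCompact
    exact {}
  obtain ⟨T, hTf, hTi, hT⟩ := NoetherianSpace.exists_finite_set_closeds_irreducible
    (⟨W₀.ι ⁻¹' C, hC.preimage W₀.ι.continuous⟩ : Closeds W₀.toScheme)
  let bad : Set X := ⋃ t ∈ {t ∈ T | x ∉ closure (W₀.ι '' (t : Set W₀.toScheme))},
    closure (W₀.ι '' (t : Set W₀.toScheme))
  have hbad : IsClosed bad := (hTf.subset (Set.sep_subset _ _)).isClosed_biUnion fun _ _ => isClosed_closure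
  have hxbad : x ∉ bad := fun h => by
    obtain ⟨t, ht, hxt⟩ := Set.mem_iUnion₂.mp h
    exact ht.2 hxt
  obtain ⟨_, ⟨W₁, hW₁, rfl⟩, hxW₁, hW₁sub⟩ := X.isBasis_affineOpens.exists_subset_of_mem_open
    (show x ∈ (W₀ : Set X) ∩ badᶜ from ⟨hxW₀, hxbad⟩) (W₀.2.inter hbad.isOpen_compl)
  refine ⟨W₁, hW₁, fun z hz => hW₀V (hW₁sub hz).1, hxW₁, fun y hyC hy => ?_⟩
  obtain ⟨y₀, rfl⟩ : y ∈ Set.range W₀.ι := by rw [Scheme.Opens.range_ι]; exact (hW₁sub hy).1
  obtain ⟨t, htT, hyt⟩ : ∃ t ∈ T, y₀ ∈ (t : Set W₀.toScheme) := by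
    have h1 : y₀ ∈ ((⟨W₀.ι ⁻¹' C, hC.preimage W₀.ι.continuous⟩ : Closeds W₀.toScheme) : Set W₀.toScheme) := hyC
    rw [hT, Closeds.coe_sSup] at h1
    have hcl : IsClosed (⋃ t ∈ T, (t : Set W₀.toScheme)) := hTf.isClosed_biUnion fun t _ => t.isClosed
    rw [Set.sUnion_image, hcl.closure_eq] at h1
    simpa using h1
  obtain ⟨η, hη⟩ := QuasiSober.sober (hTi t htT) t.isClosed
  have hηC : W₀.ι η ∈ C := by
    have h2 : t ≤ (⟨W₀.ι ⁻¹' C, hC.preimage W₀.ι.continuous⟩ : Closeds W₀.toScheme) := hT ▸ le_sSup htT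
    exact h2 hη.mem
  by_cases hx : x ∈ closure (W₀.ι '' (t : Set W₀.toScheme))
  · have h3 : closure (W₀.ι '' (t : Set W₀.toScheme)) = closure {W₀.ι η} := by
      rw [← hη.def, closure_image_closure W₀.ι.continuous, Set.image_singleton]
    rw [h3] at hx
    obtain rfl := hmax _ hηC (specializes_iff_mem_closure.mpr hx)
    exact (hη.specializes hyt).map W₀.ι.continuous
  · have hbad' : W₀.ι y₀ ∈ bad :=
      Set.mem_iUnion₂.mpr ⟨t, show t ∈ {t ∈ T | _} from ⟨htT, hx⟩, subset_closure ⟨y₀, hyt, rfl⟩⟩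
    exact absurd hbad' (hW₁sub hy).2

/-- A property holding up to a multiplier on generators holds up to a uniform multiplier. -/
theorem exists_smul_mem_of_fg {A : Type*} [CommRing A] {M : Type*} [AddCommGroup M] [Module A M]
    (S : Submonoid A) {K : Submodule A M} (hK : K.FG) (N : Submodule A M)
    (h : ∀ m ∈ K, ∃ s ∈ S, s • m ∈ N) : ∃ s ∈ S, ∀ m ∈ K, s • m ∈ N := by
  classical
  obtain ⟨gen, rfl⟩ := hK
  choose! s hs hsm using fun m (hm : m ∈ gen) => h m (Submodule.subset_span hm)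
  refine ⟨∏ m ∈ gen, s m, Submonoid.prod_mem _ hs, fun m hm => ?_⟩
  have : (Submodule.span A (gen : Set M)).map (LinearMap.lsmul A M (∏ m ∈ gen, s m)) ≤ N := by
    rw [Submodule.map_span, Submodule.span_le]
    rintro _ ⟨g, hg, rfl⟩
    rw [LinearMap.lsmul_apply, ← Finset.prod_erase_mul _ _ (Finset.mem_coe.mp hg), mul_smul]
    exact N.smul_mem _ (hsm g hg)
  exact this ⟨m, hm, rfl⟩

/-- A regular pair on the sections of a module. -/
def RegPair (M : X.Modules) {W : X.Opens} (a b : Γ(X, W)) : Prop :=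
  (∀ m : Γ(M, W), a • m = 0 → m = 0) ∧
    ∀ m n : Γ(M, W), b • m = a • n → ∃ c : Γ(M, W), m = a • c

variable (M : X.Modules)

/-- Restriction of sections of a module. -/
noncomputable abbrev mres {V W : X.Opens} (h : W ≤ V) (s : Γ(M, V)) : Γ(M, W) :=
  M.presheaf.map (homOfLE h).op s

theorem mres_mres {U V W : X.Opens} (h₁ : V ≤ U) (h₂ : W ≤ V) (s : Γ(M, U)) :
    mres M h₂ (mres M h₁ s) = mres M (h₂.trans h₁) s :=
  (congr($(M.presheaf.map_comp (homOfLE h₁).op (homOfLE h₂).op) s)).symm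

theorem mres_smul {V W : X.Opens} (h : W ≤ V) (r : Γ(X, V)) (s : Γ(M, V)) :
    mres M h (r • s) = res h r • mres M h s :=
  Scheme.Modules.map_smul M (homOfLE h) r s

theorem germ_mres {V W : X.Opens} (h : W ≤ V) (y : X) (hy : y ∈ W) (s : Γ(M, V)) :
    M.presheaf.germ W y hy (mres M h s) = M.presheaf.germ V y (h hy) s :=
  TopCat.Presheaf.germ_res_apply _ _ _ _ _

variable {M} [M.IsQuasicoherent]

/-- Separation on a basic open. -/
theorem exists_pow_smul_eq {W : X.Opens} (hW : IsAffineOpen W) (g : Γ(X, W)) (s t : Γ(M, W))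
    (h : mres M (X.basicOpen_le g) s = mres M (X.basicOpen_le g) t) : ∃ n : ℕ, g ^ n • s = g ^ n • t := by
  obtain ⟨n, hn⟩ := (QCoh.smulLift_and_smulSep_of_isAffineOpen hW M g).2 (s - t)
    (by rw [map_sub]; exact sub_eq_zero.mpr h)
  exact ⟨n, sub_eq_zero.mp ((smul_sub _ _ _).symm.trans hn)⟩

theorem exists_mres_eq {W : X.Opens} (hW : IsAffineOpen W) (g : Γ(X, W)) (s : Γ(M, X.basicOpen g)) :
    ∃ (n : ℕ) (t : Γ(M, W)), mres M (X.basicOpen_le g) t = res (X.basicOpen_le g) g ^ n • s :=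
  (QCoh.smulLift_and_smulSep_of_isAffineOpen hW M g).1 s

theorem isUnit_res_pow {W : X.Opens} (g : Γ(X, W)) (n : ℕ) :
    IsUnit (res (X.basicOpen_le g) g ^ n) :=
  (RingedSpace.isUnit_res_basicOpen _ g).pow n

theorem regPair_basicOpen {W : X.Opens} (hW : IsAffineOpen W) {a b g : Γ(X, W)}
    (h₁ : ∀ m : Γ(M, W), a • m = 0 → g • m = 0)
    (h₂ : ∀ m n : Γ(M, W), b • m = a • n → ∃ c, g • m = a • c) :
    RegPair M (res (X.basicOpen_le g) a) (res (X.basicOpen_le g) b) := by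
  have h₁' : ∀ m : Γ(M, X.basicOpen g), res (X.basicOpen_le g) a • m = 0 → m = 0 := by
    intro m hm
    obtain ⟨n, t, ht⟩ := exists_mres_eq hW g m
    obtain ⟨k, hk⟩ := exists_pow_smul_eq hW g (a • t) 0 (by
      rw [mres_smul, ht, smul_comm, hm, smul_zero, mres, map_zero])
    rw [smul_zero, smul_comm] at hk
    have h := congrArg (mres M (X.basicOpen_le g)) (h₁ _ hk)
    rw [← mul_smul, ← pow_succ', mres_smul, ht, mres, map_zero, res, map_pow] at h
    exact ((isUnit_res_pow g n).smul_eq_zero).mp (((isUnit_res_pow g (k + 1)).smul_eq_zero).mp h)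
  refine ⟨h₁', fun m m' hm => ?_⟩
  obtain ⟨i, t, ht⟩ := exists_mres_eq hW g m
  obtain ⟨j, t', ht'⟩ := exists_mres_eq hW g m'
  let G := res (X.basicOpen_le g) g
  have hpow : ∀ n : ℕ, res (X.basicOpen_le g) (g ^ n) = G ^ n := fun n => map_pow _ _ _
  obtain ⟨k, hk⟩ := exists_pow_smul_eq hW g (b • g ^ j • t) (a • g ^ i • t') (by
    rw [mres_smul, mres_smul, mres_smul, mres_smul, ht, ht', hpow, hpow,
      smul_comm (res (X.basicOpen_le g) b), smul_comm (res (X.basicOpen_le g) b), hm,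
      smul_comm (G ^ i) (res (X.basicOpen_le g) a), smul_comm (G ^ j) (res (X.basicOpen_le g) a),
      smul_comm (G ^ j) (G ^ i)])
  obtain ⟨c, hc⟩ := h₂ (g ^ k • g ^ j • t) (g ^ k • g ^ i • t')
    (by rw [smul_comm, hk, smul_comm])
  have h := congrArg (mres M (X.basicOpen_le g)) hc
  rw [mres_smul, mres_smul, mres_smul, mres_smul, ht, hpow, hpow, smul_smul, smul_smul,
    smul_smul] at h
  obtain ⟨u, hu⟩ : IsUnit (G * G ^ k * G ^ j * G ^ i) := by
    have hG : IsUnit G := RingedSpace.isUnit_res_basicOpen _ g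
    exact ((hG.mul (hG.pow k)).mul (hG.pow j)).mul (hG.pow i)
  rw [← hu] at h
  refine ⟨(↑u⁻¹ : Γ(X, X.basicOpen g)) • mres M (X.basicOpen_le g) c, ?_⟩
  rw [smul_comm, ← h, smul_smul, Units.inv_mul, one_smul]

variable [IsLocallyNoetherian X]

/-- Spreading out a regular pair from a stalk. -/
theorem exists_regPair_basicOpen [M.IsFiniteType] {W : X.Opens} (hW : IsAffineOpen W) {x : X}
    (hx : x ∈ W) (a b : Γ(X, W))
    (h₁ : ∀ μ : M.presheaf.stalk x, X.presheaf.germ W x hx a • μ = 0 → μ = 0)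
    (h₂ : ∀ μ ν : M.presheaf.stalk x, X.presheaf.germ W x hx b • μ = X.presheaf.germ W x hx a • ν →
      ∃ c, μ = X.presheaf.germ W x hx a • c) :
    ∃ g : Γ(X, W), x ∈ X.basicOpen g ∧
      RegPair M (res (X.basicOpen_le g) a) (res (X.basicOpen_le g) b) := by
  have : IsNoetherianRing Γ(X, W) := IsLocallyNoetherian.component_noetherian ⟨W, hW⟩
  have : Module.Finite Γ(X, W) Γ(M, W) := QCoh.moduleFinite_of_isFiniteType M inferInstance hW
  have hfg : ∀ K : Submodule Γ(X, W) Γ(M, W), K.FG := IsNoetherian.noetherian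
  let S : Submonoid Γ(X, W) := (primeAt x hx).primeCompl
  let La : Γ(M, W) →ₗ[Γ(X, W)] Γ(M, W) := LinearMap.lsmul _ _ a
  obtain ⟨s₁, hs₁, hs₁'⟩ := exists_smul_mem_of_fg S (hfg (LinearMap.ker La)) ⊥ (fun m hm => by
    have : M.presheaf.germ W x hx m = 0 := h₁ _ (by
      rw [← WeakAss.germ_smul hx, show a • m = 0 from hm, map_zero])
    obtain ⟨c, hc, hcm⟩ := (WeakAss.germ_eq_zero_iff hW hx m).mp this
    exact ⟨c, hc, by simpa using hcm⟩)
  obtain ⟨s₂, hs₂, hs₂'⟩ := exists_smul_mem_of_fg S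
    (hfg ((LinearMap.range La).comap (LinearMap.lsmul _ _ b))) (LinearMap.range La) (fun m hm => by
      obtain ⟨n, hn⟩ := hm
      obtain ⟨μ, hμ⟩ := h₂ (M.presheaf.germ W x hx m) (M.presheaf.germ W x hx n) (by
        rw [← WeakAss.germ_smul hx, ← WeakAss.germ_smul hx]
        exact congrArg _ hn.symm)
      obtain ⟨c, z, hc, hz⟩ := WeakAss.exists_smul_eq_germ hW hx μ
      obtain ⟨c', hc', hc''⟩ := (WeakAss.germ_eq_zero_iff hW hx (c • m - a • z)).mp (by
        rw [map_sub, WeakAss.germ_smul hx, WeakAss.germ_smul hx, ← hz, hμ, smul_comm, sub_self])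
      refine ⟨c' * c, S.mul_mem hc' hc, c' • z, ?_⟩
      rw [smul_sub, sub_eq_zero] at hc''
      show a • c' • z = (c' * c) • m
      rw [mul_smul, hc'', smul_comm])
  refine ⟨s₁ * s₂, notMem_primeAt_iff.mp (S.mul_mem hs₁ hs₂), regPair_basicOpen hW ?_ ?_⟩
  · intro m hm
    rw [mul_comm, mul_smul, show s₁ • m = 0 by simpa using hs₁' m hm, smul_zero]
  · intro m n hmn
    obtain ⟨c, hc⟩ := hs₂' m ⟨n, hmn.symm⟩
    exact ⟨s₁ • c, by rw [mul_smul, ← hc]; exact smul_comm _ _ _⟩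

omit [IsLocallyNoetherian X] in
theorem germ_regular_of_regPair {W : X.Opens} (hW : IsAffineOpen W) {a : Γ(X, W)}
    (ha : ∀ m : Γ(M, W), a • m = 0 → m = 0) {y : X} (hy : y ∈ W) {μ : M.presheaf.stalk y}
    (h : X.presheaf.germ W y hy a • μ = 0) : μ = 0 := by
  obtain ⟨c, z, hc, hz⟩ := WeakAss.exists_smul_eq_germ hW hy μ
  obtain ⟨c', hc', h'⟩ := (WeakAss.germ_eq_zero_iff hW hy (a • z)).mp (by
    rw [WeakAss.germ_smul hy, ← hz, smul_comm, h, smul_zero])
  rw [smul_comm] at h'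
  have h0 := (WeakAss.germ_eq_zero_iff hW hy z).mpr ⟨c', hc', ha _ h'⟩
  rw [← hz] at h0
  exact ((Scheme.mem_basicOpen _ c y hy).mp (notMem_primeAt_iff.mp hc)).smul_eq_zero.mp h0

omit [IsLocallyNoetherian X] in
theorem eq_of_regular_of_germ_eq {W O : X.Opens} (hW : IsAffineOpen W) {a : Γ(X, W)}
    (ha : ∀ m : Γ(M, W), a • m = 0 → m = 0) (hOW : O ≤ W) {d d' : Γ(M, O)}
    (h : ∀ (y : X) (hy : y ∈ O), y ∈ X.basicOpen a →
      M.presheaf.germ O y hy d = M.presheaf.germ O y hy d') : d = d' := by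
  refine TopCat.Presheaf.section_ext ⟨M.presheaf, M.isSheaf⟩ O d d' fun y hy => ?_
  obtain ⟨_, ⟨W', hW', rfl⟩, hyW', hW'O⟩ := X.isBasis_affineOpens.exists_subset_of_mem_open hy O.2
  let W' : X.Opens := W'
  have hle : W' ≤ O := hW'O
  let a' := res (hle.trans hOW) a
  have hD : mres M (X.basicOpen_le a') (mres M hle d) = mres M (X.basicOpen_le a') (mres M hle d') := by
    refine TopCat.Presheaf.section_ext ⟨M.presheaf, M.isSheaf⟩ _ _ _ fun z hz => ?_
    have hza : z ∈ X.basicOpen a := by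
      have : z ∈ X.basicOpen a' := hz
      simp only [a', res, Scheme.basicOpen_res] at this
      exact this.2
    show M.presheaf.germ (X.basicOpen a') z hz _ = M.presheaf.germ (X.basicOpen a') z hz _
    rw [germ_mres, germ_mres, germ_mres, germ_mres]
    exact h z _ hza
  obtain ⟨n, hn⟩ := exists_pow_smul_eq hW' a' _ _ hD
  have hg := congrArg (M.presheaf.germ W' y hyW') hn
  rw [WeakAss.germ_smul hyW', WeakAss.germ_smul hyW', map_pow, germ_res, germ_mres, germ_mres] at hg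
  clear hn hD
  induction n with
  | zero => simpa using hg
  | succ n ih =>
    refine ih (sub_eq_zero.mp (germ_regular_of_regPair hW ha (hOW hy) ?_))
    rw [smul_sub, ← mul_smul, ← mul_smul, ← pow_succ', hg, sub_self]

/-- Depth at least two gives a regular pair on a neighbourhood. -/
theorem exists_regPair_nhd [M.IsFiniteType] (C : Set X) (hC : IsClosed C) {x : X}
    (hmax : ∀ y ∈ C, y ⤳ x → y = x)
    (hdepth : (2 : ℕ∞) ≤ LocCoh.depth (X.presheaf.stalk x) (M.presheaf.stalk x))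
    {V : X.Opens} (hxV : x ∈ V) :
    ∃ W : X.Opens, IsAffineOpen W ∧ W ≤ V ∧ x ∈ W ∧ ∃ a b : Γ(X, W),
      RegPair M a b ∧ ∀ y ∈ C, y ∉ X.basicOpen a ∧ y ∉ X.basicOpen b := by
  obtain ⟨W₁, hW₁, hW₁V, hxW₁, hC₁⟩ := exists_nhd_specializes C hC hmax hxV
  let A := X.presheaf.stalk x
  let N := M.presheaf.stalk x
  have : Module.Finite A N := QuasiFlat.finite_stalk M ⟨inferInstance, inferInstance⟩ x
  obtain ⟨α, β, hα, hβ, h₁, h₂⟩ : ∃ α β : A, α ∈ IsLocalRing.maximalIdeal A ∧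
      β ∈ IsLocalRing.maximalIdeal A ∧ (∀ μ : N, α • μ = 0 → μ = 0) ∧
      (∀ μ ν : N, β • μ = α • ν → ∃ c, μ = α • c) := by
    by_cases hne : IsLocalRing.maximalIdeal A • (⊤ : Submodule A N) = ⊤
    · have h0 : (⊤ : Submodule A N) = ⊥ := Submodule.eq_bot_of_le_smul_of_le_jacobson_bot
        (IsLocalRing.maximalIdeal A) ⊤ Module.Finite.fg_top hne.ge
        (IsLocalRing.maximalIdeal_le_jacobson _)
      have hz : ∀ μ : N, μ = 0 := fun μ => (Submodule.mem_bot A).mp (h0 ▸ Submodule.mem_top)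
      exact ⟨0, 0, zero_mem _, zero_mem _, fun μ _ => hz μ, fun μ _ _ => ⟨0, by rw [smul_zero]; exact hz μ⟩⟩
    · obtain ⟨rs, hlen, hmem, hreg⟩ := (le_idealDepth_iff_exists _ hne 2).mp hdepth
      obtain ⟨α, β, rfl⟩ := List.length_eq_two.mp hlen
      rw [isWeaklyRegular_cons_iff, isWeaklyRegular_cons_iff] at hreg
      obtain ⟨hα, hβ, -⟩ := hreg
      refine ⟨α, β, hmem _ (by simp), hmem _ (by simp), fun μ hμ => hα (hμ.trans (smul_zero α).symm),
        fun μ ν h => ?_⟩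
      have h' := (isSMulRegular_quotient_iff_mem_of_smul_mem _ _).mp hβ μ
        (Submodule.mem_smul_pointwise_iff_exists _ _ _ |>.mpr ⟨ν, Submodule.mem_top, h.symm⟩)
      obtain ⟨c, -, hc⟩ := (Submodule.mem_smul_pointwise_iff_exists _ _ _).mp h'
      exact ⟨c, hc.symm⟩
  obtain ⟨d, num, hd, hnum⟩ := FlatFP.exists_common_denominator hW₁ hxW₁ (κ := ULift.{u} (Fin 2))
    (fun i => ![α, β] i.down)
  have hu : IsUnit (X.presheaf.germ W₁ x hxW₁ d) :=
    (Scheme.mem_basicOpen _ d x hxW₁).mp (notMem_primeAt_iff.mp hd)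
  obtain ⟨g, hxg, hreg⟩ := exists_regPair_basicOpen (M := M) hW₁ hxW₁ (num ⟨0⟩) (num ⟨1⟩)
    (fun μ hμ => by
      rw [hnum, mul_smul] at hμ
      exact h₁ μ (hu.smul_eq_zero.mp hμ))
    (fun μ ν h => by
      rw [hnum, hnum, mul_smul, mul_smul] at h
      obtain ⟨c, hc⟩ := h₂ μ ν (hu.smul_left_cancel.mp h)
      refine ⟨(↑hu.unit⁻¹ : A) • c, ?_⟩
      rw [hnum, mul_comm, mul_smul, smul_smul _ _ c, hu.mul_val_inv, one_smul]
      exact hc)
  refine ⟨X.basicOpen g, hW₁.basicOpen g, (X.basicOpen_le g).trans hW₁V, hxg, _, _, hreg, ?_⟩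
  have hnot : ∀ i : Fin 2, ∀ y ∈ C, y ∉ X.basicOpen (res (X.basicOpen_le g) (num ⟨i⟩)) := by
    intro i y hyC hy
    rw [Scheme.basicOpen_res] at hy
    have hxy := hC₁ y hyC (X.basicOpen_le g hy.1)
    have hx1 : IsUnit (X.presheaf.germ W₁ x hxW₁ (num ⟨i⟩)) :=
      (Scheme.mem_basicOpen _ _ x hxW₁).1 (hxy.mem_open (X.basicOpen (num ⟨i⟩)).2 hy.2)
    rw [hnum] at hx1
    refine (IsLocalRing.mem_maximalIdeal _).mp ?_ (isUnit_of_mul_isUnit_right hx1)
    fin_cases i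
    · exact hα
    · exact hβ
  exact fun y hy => ⟨hnot 0 y hy, hnot 1 y hy⟩

end GrothLib.Depth
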