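import Groth.Agent.Lib.Depth.CM
import Mathlib.RingTheory.Ideal.AssociatedPrime.Localization
import Mathlib.RingTheory.QuotSMulTop

/-! Semicontinuity of depth along the closure of a prime. -/

universe u

open IsLocalRing TensorProduct

namespace GrothLib.Depth

variable {R : Type u} [CommRing R] [IsNoetherianRing R]

theorem isNoetherian_atPrime (q : Ideal R) [q.IsPrime] : IsNoetherianRing (Localization.AtPrime q) :=
  IsLocalization.isNoetherianRing q.primeCompl _ inferInstance

omit [IsNoetherianRing R] in
theorem isSMulRegular_localizedModule {M : Type u} [AddCommGroup M] [Module R M] (q : Ideal R)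
    [q.IsPrime] {x f : R} (hf : f ∉ q) (h : ∀ m : M, x • m = 0 → f • m = 0) :
    IsSMulRegular (LocalizedModule q.primeCompl M) (algebraMap R (Localization.AtPrime q) x) := by
  rw [isSMulRegular_iff_right_eq_zero_of_smul]
  intro z hz
  rw [algebraMap_smul] at hz
  obtain ⟨⟨m, s⟩, rfl⟩ := IsLocalizedModule.mk'_surjective q.primeCompl
    (LocalizedModule.mkLinearMap q.primeCompl M) z
  rw [Function.uncurry_apply_pair, ← IsLocalizedModule.mk'_smul, IsLocalizedModule.mk'_eq_zero'] at hz
  obtain ⟨u, hu⟩ := hz
  rw [Function.uncurry_apply_pair, IsLocalizedModule.mk'_eq_zero']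
  refine ⟨u * (⟨f, hf⟩ : q.primeCompl), ?_⟩
  rw [Submonoid.smul_def] at hu
  rw [Submonoid.smul_def, Submonoid.coe_mul, mul_comm, mul_smul]
  exact h _ (by rw [smul_comm]; exact hu)

theorem idealDepth_localization_quotSMulTop (q : Ideal R) [q.IsPrime]
    (M : Type u) [AddCommGroup M] [Module R M] [Module.Finite R M]
    (J : Ideal (Localization.AtPrime q)) {x : R} (hx : algebraMap R (Localization.AtPrime q) x ∈ J)
    (hreg : IsSMulRegular (LocalizedModule q.primeCompl M) (algebraMap R (Localization.AtPrime q) x)) :
    LocCoh.idealDepth J (LocalizedModule q.primeCompl (QuotSMulTop x M)) + 1 =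
      LocCoh.idealDepth J (LocalizedModule q.primeCompl M) := by
  haveI := isNoetherian_atPrime q
  rw [idealDepth_eq_of_equiv J (LocalizedModule.equivTensorProduct q.primeCompl (QuotSMulTop x M)),
    idealDepth_eq_of_equiv J (QuotSMulTop.algebraMapTensorEquivTensorQuotSMulTop x M
      (Localization.AtPrime q)).symm,
    idealDepth_eq_of_equiv J (LocalizedModule.equivTensorProduct q.primeCompl M)]
  exact idealDepth_quotSMulTop_add_one J hx
    (((LocalizedModule.equivTensorProduct q.primeCompl M).isSMulRegular_congr _).1 hreg)

theorem exists_open_semicontinuous (I p : Ideal R) [p.IsPrime] (hI : I ≤ p) (e : ℕ) :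
    ∀ (M : Type u) [AddCommGroup M] [Module R M] [Module.Finite R M],
      LocCoh.idealDepth (I.map (algebraMap R (Localization.AtPrime p))) (LocalizedModule p.primeCompl M) = e →
      ∃ f, f ∉ p ∧ ∃ S : Set (Ideal R), S.Finite ∧ ∀ (q : Ideal R) [q.IsPrime], p ≤ q → f ∉ q →
        (e : ℕ∞) ≤ LocCoh.idealDepth (I.map (algebraMap R (Localization.AtPrime q)))
          (LocalizedModule q.primeCompl M) ∧
        (LocCoh.depth (Localization.AtPrime q) (LocalizedModule q.primeCompl M) = e → q ∈ S) := by
  haveI := isNoetherian_atPrime p
  induction e with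
  | zero =>
    intro M _ _ _ he
    refine ⟨1, fun h => (inferInstance : p.IsPrime).ne_top ((Ideal.eq_top_iff_one _).2 h),
      associatedPrimes R M, associatedPrimes.finite R M,
      fun q hq _ _ => ⟨by simp, fun h => ?_⟩⟩
    haveI := isNoetherian_atPrime q
    haveI : Nontrivial (LocalizedModule q.primeCompl M) := by
      by_contra hc
      rw [not_nontrivial_iff_subsingleton] at hc
      rw [depth_eq_top_of_subsingleton] at h
      exact ENat.natCast_ne_top 0 h.symm
    obtain ⟨P, hP, hle⟩ := exists_associatedPrime_ge (maximalIdeal.isMaximal _).ne_top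
      (M := LocalizedModule q.primeCompl M) (fun h1 => absurd (h1.trans h.le) (by simp))
    rw [← (maximalIdeal.isMaximal _).eq_of_le hP.isPrime.ne_top hle] at hP
    have := Module.associatedPrimes.comap_mem_associatedPrimes_of_mem_associatedPrimes_of_isLocalizedModule_of_fg
      q.primeCompl (LocalizedModule.mkLinearMap q.primeCompl M) _ hP (IsNoetherian.noetherian _)
    change Ideal.under R _ ∈ _ at this
    rwa [Localization.AtPrime.under_maximalIdeal] at this
  | succ e ih =>
    intro M _ _ _ he
    have hmax : I.map (algebraMap R (Localization.AtPrime p)) ≤ maximalIdeal _ := by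
      rw [← Localization.AtPrime.map_eq_maximalIdeal]
      exact Ideal.map_mono hI
    haveI : Nontrivial (LocalizedModule p.primeCompl M) := by
      by_contra hc
      rw [not_nontrivial_iff_subsingleton] at hc
      rw [LocCoh.idealDepth, if_pos (Subsingleton.elim _ _)] at he
      exact ENat.natCast_ne_top _ he.symm
    obtain ⟨y, hy, hyreg⟩ := (one_le_idealDepth_iff (M := LocalizedModule p.primeCompl M)
      fun h => (maximalIdeal.isMaximal _).ne_top (top_le_iff.1 (h.ge.trans hmax))).1 (by rw [he]; simp)
    obtain ⟨⟨⟨x, hxI⟩, s⟩, hxy⟩ :=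
      (IsLocalization.mem_map_algebraMap_iff p.primeCompl (Localization.AtPrime p)).1 hy
    simp only at hxy
    have hxreg : IsSMulRegular (LocalizedModule p.primeCompl M) (algebraMap R (Localization.AtPrime p) x) :=
      hxy ▸ hyreg.mul ((IsLocalization.map_units (Localization.AtPrime p) s).isSMulRegular _)
    let K := LinearMap.ker (LinearMap.lsmul R M x)
    haveI : Module.Finite R K := inferInstance
    have hK : (⟨p, inferInstance⟩ : PrimeSpectrum R) ∉ Module.support R K := by
      rw [Module.notMem_support_iff']
      rintro ⟨m, hm⟩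
      have h0 : (LocalizedModule.mkLinearMap p.primeCompl M) m = 0 := by
        refine hxreg ?_
        show _ • _ = _ • 0
        rw [smul_zero, algebraMap_smul, ← map_smul]
        rw [show x • m = 0 from hm, map_zero]
      obtain ⟨r, hr⟩ := (IsLocalizedModule.eq_zero_iff p.primeCompl
        (LocalizedModule.mkLinearMap p.primeCompl M)).1 h0
      exact ⟨r.1, r.2, Subtype.ext hr⟩
    rw [Module.mem_support_iff_of_finite, SetLike.not_le_iff_exists] at hK
    obtain ⟨f, hf, hfp⟩ := hK
    have hker : ∀ m : M, x • m = 0 → f • m = 0 := fun m hm =>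
      congrArg Subtype.val (Module.mem_annihilator.1 hf ⟨m, hm⟩)
    have hq' := idealDepth_localization_quotSMulTop p M (I.map (algebraMap R (Localization.AtPrime p)))
      (Ideal.mem_map_of_mem _ hxI) hxreg
    rw [he] at hq'
    have he' : LocCoh.idealDepth (I.map (algebraMap R (Localization.AtPrime p)))
        (LocalizedModule p.primeCompl (QuotSMulTop x M)) = e := by
      generalize LocCoh.idealDepth (I.map (algebraMap R (Localization.AtPrime p)))
        (LocalizedModule p.primeCompl (QuotSMulTop x M)) = a at hq' ⊢
      induction a using ENat.recTopCoe with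
      | top =>
        rw [top_add] at hq'
        exact absurd hq'.symm (ENat.natCast_ne_top _)
      | coe a => exact_mod_cast Nat.add_right_cancel (by exact_mod_cast hq' : a + 1 = e + 1)
    obtain ⟨g, hg, S, hS, hqs⟩ := ih (QuotSMulTop x M) he'
    refine ⟨f * g, fun h => ((inferInstance : p.IsPrime).mem_or_mem h).elim hfp hg, S, hS,
      fun q hq hpq hfg => ?_⟩
    haveI := isNoetherian_atPrime q
    have hfq : f ∉ q := fun h => hfg (Ideal.mul_mem_right _ _ h)
    have hgq : g ∉ q := fun h => hfg (Ideal.mul_mem_left _ _ h)
    obtain ⟨h1, h2⟩ := hqs q hpq hgq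
    have hreg := isSMulRegular_localizedModule (M := M) q hfq hker
    refine ⟨?_, fun h => h2 ?_⟩
    · rw [← idealDepth_localization_quotSMulTop q M _ (Ideal.mem_map_of_mem _ hxI) hreg, Nat.cast_succ]
      exact add_le_add_left h1 1
    · rw [LocCoh.depth] at h ⊢
      have := idealDepth_localization_quotSMulTop q M (maximalIdeal (Localization.AtPrime q))
        (by rw [← Localization.AtPrime.map_eq_maximalIdeal]; exact Ideal.mem_map_of_mem _ (hpq (hI hxI))) hreg
      rw [h] at this
      generalize LocCoh.idealDepth (maximalIdeal (Localization.AtPrime q))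
        (LocalizedModule q.primeCompl (QuotSMulTop x M)) = a at this ⊢
      induction a using ENat.recTopCoe with
      | top =>
        rw [top_add] at this
        exact absurd this.symm (ENat.natCast_ne_top _)
      | coe a => exact_mod_cast Nat.add_right_cancel (by exact_mod_cast this : a + 1 = e + 1)

end GrothLib.Depth
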