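import Groth.Agent.Lib.LC.ExtVanish
import Groth.Prelude.Def_CAlg
import Mathlib.RingTheory.Depth.Rees
import Mathlib.RingTheory.Nakayama

/-! The `I`-depth via `Ext` and local cohomology. -/

universe u

open CategoryTheory Abelian RingTheory.Sequence

namespace GrothLib.Depth

variable {R : Type u} [CommRing R] (I : Ideal R) {M : Type u} [AddCommGroup M] [Module R M]

theorem isRegular_of_isWeaklyRegular (hIM : I • (⊤ : Submodule R M) ≠ ⊤) {rs : List R}
    (h : IsWeaklyRegular M rs) (hmem : ∀ r ∈ rs, r ∈ I) : IsRegular M rs := by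
  have hle : Ideal.ofList rs ≤ I := Ideal.span_le.2 hmem
  exact ⟨h, fun h' => hIM (top_le_iff.1 (h'.le.trans (Submodule.smul_mono_left hle)))⟩

theorem le_idealDepth_iff_exists (hIM : I • (⊤ : Submodule R M) ≠ ⊤) (n : ℕ) :
    (n : ℕ∞) ≤ LocCoh.idealDepth I M ↔
      ∃ rs : List R, rs.length = n ∧ (∀ r ∈ rs, r ∈ I) ∧ IsWeaklyRegular M rs := by
  rw [LocCoh.idealDepth, if_neg hIM]
  constructor
  · intro h
    rcases n with - | m
    · exact ⟨[], rfl, by simp, by simp⟩
    by_contra hne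
    have hle : (⨆ (rs : List R) (_ : IsWeaklyRegular M rs ∧ ∀ r ∈ rs, r ∈ I), (rs.length : ℕ∞)) ≤ m :=
      iSup₂_le fun rs hrs => by
        by_contra hlt
        have hlen : m + 1 ≤ rs.length := by
          have : (m : ℕ∞) < rs.length := not_le.1 hlt
          exact_mod_cast this
        refine hne ⟨rs.take (m + 1), by simp [hlen], fun r hr => hrs.2 r (List.mem_of_mem_take hr), ?_⟩
        have := hrs.1
        rw [← List.take_append_drop (m + 1) rs, isWeaklyRegular_append_iff] at this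
        exact this.1
    have : ((m + 1 : ℕ) : ℕ∞) ≤ (m : ℕ∞) := h.trans hle
    exact Nat.not_succ_le_self m (by exact_mod_cast this)
  · rintro ⟨rs, rfl, hmem, h⟩
    exact le_iSup₂ (f := fun (rs : List R) (_ : IsWeaklyRegular M rs ∧ ∀ r ∈ rs, r ∈ I) =>
      (rs.length : ℕ∞)) rs ⟨h, hmem⟩

variable [IsNoetherianRing R] [Module.Finite R M]

omit [IsNoetherianRing R] in
theorem ext_subsingleton_of_smul_top_eq_top (hIM : I • (⊤ : Submodule R M) = ⊤) (i : ℕ) :
    Subsingleton (Ext (ModuleCat.of R (R ⧸ I)) (ModuleCat.of R M) i) := by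
  refine subsingleton_of_forall_eq 0 fun e => ?_
  obtain ⟨r, hr, hrM⟩ := Submodule.exists_sub_one_mem_and_smul_eq_zero_of_fg_of_le_smul I
    (⊤ : Submodule R M) Module.Finite.fg_top hIM.ge
  have h1 : r • e = e := by
    have : r • 𝟙 (ModuleCat.of R (R ⧸ I)) = 𝟙 _ := by
      refine ModuleCat.hom_ext (Submodule.linearMap_qext _ (LinearMap.ext fun x => ?_))
      show (Ideal.Quotient.mk I (r * x)) = Ideal.Quotient.mk I x
      rw [Ideal.Quotient.eq, ← sub_one_mul]
      exact I.mul_mem_right x hr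
    rw [GrothLib.LC.smul_eq_mk₀_comp, this, Ext.mk₀_id_comp]
  have h2 : r • e = 0 := by
    have : r • 𝟙 (ModuleCat.of R M) = 0 :=
      ModuleCat.hom_ext (LinearMap.ext fun m => hrM m Submodule.mem_top)
    rw [Ext.smul_eq_comp_mk₀, this, Ext.mk₀_zero, Ext.comp_zero]
  rw [← h1, h2]

/-- `n ≤ depth_I M` iff `Ext^i(R/I, M) = 0` for all `i < n`. -/
theorem le_idealDepth_iff_ext (n : ℕ) :
    (n : ℕ∞) ≤ LocCoh.idealDepth I M ↔
      ∀ i < n, Subsingleton (Ext (ModuleCat.of R (R ⧸ I)) (ModuleCat.of R M) i) := by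
  by_cases hIM : I • (⊤ : Submodule R M) = ⊤
  · rw [LocCoh.idealDepth, if_pos hIM]
    exact ⟨fun _ i _ => ext_subsingleton_of_smul_top_eq_top I hIM i, fun _ => le_top⟩
  rw [le_idealDepth_iff_exists I hIM]
  constructor
  · rintro ⟨rs, rfl, hmem, h⟩
    exact ModuleCat.subsingleton_ext_of_exists_isRegular I (ModuleCat.of R (R ⧸ I))
      (GrothLib.LC.support_quotient_eq I).subset (ModuleCat.of R M) (lt_top_iff_ne_top.2 hIM) rs hmem
      (isRegular_of_isWeaklyRegular I hIM h hmem)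
  · intro h
    obtain ⟨rs, h1, h2, h3⟩ := ModuleCat.exists_isRegular_of_exists_subsingleton_ext I n
      (ModuleCat.of R M) (lt_top_iff_ne_top.2 hIM) (ModuleCat.of R (R ⧸ I))
      (GrothLib.LC.support_quotient_eq I) h
    exact ⟨rs, h1, h2, h3.toIsWeaklyRegular⟩

/-- `n ≤ depth_I M` iff `H^i_I(M) = 0` for all `i < n`. -/
theorem le_idealDepth_iff_H (n : ℕ) :
    (n : ℕ∞) ≤ LocCoh.idealDepth I M ↔
      ∀ i < n, Subsingleton (LocCoh.H I i M) :=
  (le_idealDepth_iff_ext I n).trans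
    (GrothLib.LC.forall_subsingleton_H_iff I (G := ModuleCat.of R M) n).symm

omit [IsNoetherianRing R] [Module.Finite R M] in
theorem idealDepth_ne_top_iff_aux {d : ℕ∞} (P : ℕ → Prop) (h : ∀ n : ℕ, (n : ℕ∞) ≤ d ↔ ∀ i < n, P i)
    (n : ℕ) : d = n ↔ (∀ i < n, P i) ∧ ¬ P n := by
  constructor
  · rintro rfl
    refine ⟨(h n).1 le_rfl, fun hn => ?_⟩
    have h' := (h (n + 1)).2 fun i hi => by
      rcases Nat.lt_succ_iff_lt_or_eq.1 hi with hi | rfl
      · exact (h n).1 le_rfl i hi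
      · exact hn
    exact Nat.not_succ_le_self n (by exact_mod_cast h')
  · rintro ⟨hlt, hn⟩
    refine le_antisymm (not_lt.1 fun hlt' => hn ?_) ((h n).2 hlt)
    have h1 : ((n + 1 : ℕ) : ℕ∞) ≤ d := by
      exact_mod_cast Order.add_one_le_of_lt hlt'
    exact (h (n + 1)).1 h1 n (Nat.lt_succ_self n)

omit [IsNoetherianRing R] [Module.Finite R M] in
theorem le_of_forall_coe_le {a b : ℕ∞} (h : ∀ n : ℕ, (n : ℕ∞) ≤ a → (n : ℕ∞) ≤ b) : a ≤ b := by
  induction a using ENat.recTopCoe with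
  | top =>
    rw [top_le_iff]
    exact ENat.eq_top_iff_forall_ge.2 fun n => h n le_top
  | coe n => exact h n le_rfl

end GrothLib.Depth
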