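import Groth.Agent.Lib.Depth.HartogsMod
import Groth.Agent.Lib.AssPts.Points
import Mathlib.RingTheory.Ideal.AssociatedPrime.Finiteness

/-!
Unique extension of sections forces depth `≥ 2` outside the open.
-/

universe u

open CategoryTheory AlgebraicGeometry TopologicalSpace Opposite RingTheory.Sequence
open scoped Pointwise

namespace GrothLib.Depth

open GrothLib.WeakAss (primeAt notMem_primeAt_iff)

/-- Without a regular element in a prime, some nonzero element is killed by it. -/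
theorem exists_killed_of_no_regular {A N : Type u} [CommRing A] [IsNoetherianRing A] [IsLocalRing A]
    [AddCommGroup N] [Module A N] [Module.Finite A N] [Nontrivial N]
    (h : ∀ α ∈ IsLocalRing.maximalIdeal A, ¬ IsSMulRegular N α) :
    ∃ μ : N, μ ≠ 0 ∧ ∀ α ∈ IsLocalRing.maximalIdeal A, α • μ = 0 := by
  have hsub : (IsLocalRing.maximalIdeal A : Set A) ⊆ ⋃ P ∈ associatedPrimes A N, (P : Set A) := by
    rw [biUnion_associatedPrimes_eq_compl_regular]
    exact h
  obtain ⟨P, hP, hle⟩ := (Ideal.subset_union_prime_finite (associatedPrimes.finite A N) ⊤ ⊤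
    (fun P hP _ _ => hP.isPrime) ).mp hsub
  have hPm : P = IsLocalRing.maximalIdeal A :=
    ((IsLocalRing.maximalIdeal.isMaximal A).eq_of_le hP.isPrime.ne_top hle).symm
  obtain ⟨μ, hμ⟩ := isAssociatedPrime_iff.mp hP |>.2
  refine ⟨μ, fun h0 => hP.isPrime.ne_top ?_, fun α hα => ?_⟩
  · rw [hμ, eq_top_iff]
    intro r _
    simp [h0, Submodule.mem_colon_singleton]
  · have : α ∈ (⊥ : Submodule A N).colon {μ} := hμ ▸ (hPm ▸ hα)
    simpa [Submodule.mem_colon_singleton] using this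

variable {X : Scheme.{u}} {M : X.Modules} [M.IsQuasicoherent] [M.IsFiniteType] [IsLocallyNoetherian X]
  {U : X.Opens} (hb : ∀ V : X.Opens, Function.Bijective (mres M (inf_le_left : V ⊓ U ≤ V)))
include hb

/-- No nonzero germ outside `U` is killed by the maximal ideal. -/
theorem eq_zero_of_killed {x : X} (hx : x ∉ U) (μ : M.presheaf.stalk x)
    (h : ∀ α ∈ IsLocalRing.maximalIdeal (X.presheaf.stalk x), α • μ = 0) : μ = 0 := by
  obtain ⟨W, hW, hxW⟩ : ∃ W : X.Opens, IsAffineOpen W ∧ x ∈ W := by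
    obtain ⟨_, ⟨W, hW, rfl⟩, hxW, -⟩ :=
      X.isBasis_affineOpens.exists_subset_of_mem_open (Set.mem_univ x) isOpen_univ
    exact ⟨W, hW, hxW⟩
  have : IsNoetherianRing Γ(X, W) := IsLocallyNoetherian.component_noetherian ⟨W, hW⟩
  obtain ⟨c, z, hc, hz⟩ := WeakAss.exists_smul_eq_germ hW hxW μ
  let p := primeAt x hxW
  let S := p.primeCompl
  obtain ⟨g, hg, hgz⟩ := exists_smul_mem_of_fg S (IsNoetherian.noetherian p)
    (LinearMap.ker (LinearMap.toSpanSingleton Γ(X, W) Γ(M, W) z)) (fun a ha => by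
      obtain ⟨c', hc', h'⟩ := (WeakAss.germ_eq_zero_iff hW hxW (a • z)).mp (by
        rw [WeakAss.germ_smul hxW, ← hz, smul_comm, h _ ha, smul_zero])
      exact ⟨c', hc', by rw [LinearMap.mem_ker, LinearMap.toSpanSingleton_apply, smul_eq_mul, mul_smul]; exact h'⟩)
  have hxg : x ∈ X.basicOpen g := notMem_primeAt_iff.mp hg
  have hz0 : mres M (X.basicOpen_le g) z = 0 := (hb (X.basicOpen g)).1 (by
    refine TopCat.Presheaf.section_ext ⟨M.presheaf, M.isSheaf⟩ _ _ _ fun y hy => ?_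
    show M.presheaf.germ _ y hy _ = M.presheaf.germ _ y hy _
    have hyW : y ∈ W := X.basicOpen_le g hy.1
    obtain ⟨a, ha, hay⟩ : ∃ a ∈ p, a ∉ primeAt y hyW := by
      by_contra hne
      push Not at hne
      exact hx (((AssPts.specializes_iff hW hxW hyW).mpr hne).mem_open U.2 hy.2)
    rw [germ_mres, germ_mres, mres, map_zero, map_zero]
    refine (WeakAss.germ_eq_zero_iff hW hyW z).mpr ⟨g * a, ?_, ?_⟩
    · exact (primeAt y hyW).primeCompl.mul_mem (notMem_primeAt_iff.mpr hy.1) hay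
    · simpa using hgz a ha)
  have hμ : X.presheaf.germ W x hxW c • μ = 0 := by
    rw [hz, ← germ_mres M (X.basicOpen_le g) x hxg z, hz0, map_zero]
  exact ((Scheme.mem_basicOpen _ c x hxW).mp (notMem_primeAt_iff.mp hc)).smul_eq_zero.mp hμ

/-- Modulo a regular element no nonzero germ outside `U` is killed by the maximal ideal. -/
theorem exists_eq_smul_of_killed {x : X} (hx : x ∉ U) {α : X.presheaf.stalk x}
    (hα : IsSMulRegular (M.presheaf.stalk x) α) (ν : M.presheaf.stalk x)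
    (h : ∀ β ∈ IsLocalRing.maximalIdeal (X.presheaf.stalk x), ∃ ρ, β • ν = α • ρ) :
    ∃ ρ, ν = α • ρ := by
  obtain ⟨W, hW, hxW⟩ : ∃ W : X.Opens, IsAffineOpen W ∧ x ∈ W := by
    obtain ⟨_, ⟨W, hW, rfl⟩, hxW, -⟩ :=
      X.isBasis_affineOpens.exists_subset_of_mem_open (Set.mem_univ x) isOpen_univ
    exact ⟨W, hW, hxW⟩
  have : IsNoetherianRing Γ(X, W) := IsLocallyNoetherian.component_noetherian ⟨W, hW⟩
  have : Module.Finite Γ(X, W) Γ(M, W) := QCoh.moduleFinite_of_isFiniteType M inferInstance hW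
  let p := primeAt x hxW
  let S := p.primeCompl
  obtain ⟨d, num, hd, hnum⟩ := FlatFP.exists_common_denominator hW hxW (κ := PUnit.{u + 1}) (fun _ => α)
  have hud : IsUnit (X.presheaf.germ W x hxW d) :=
    (Scheme.mem_basicOpen _ d x hxW).mp (notMem_primeAt_iff.mp hd)
  let a := num PUnit.unit
  have hareg : ∀ μ : M.presheaf.stalk x, X.presheaf.germ W x hxW a • μ = 0 → μ = 0 := fun μ hμ => by
    rw [hnum, mul_smul] at hμ
    exact hα (show α • μ = α • (0 : M.presheaf.stalk x) from (hud.smul_eq_zero.mp hμ).trans (smul_zero α).symm)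
  obtain ⟨c, z, hc, hz⟩ := WeakAss.exists_smul_eq_germ hW hxW ν
  have huc : IsUnit (X.presheaf.germ W x hxW c) :=
    (Scheme.mem_basicOpen _ c x hxW).mp (notMem_primeAt_iff.mp hc)
  let La : Γ(M, W) →ₗ[Γ(X, W)] Γ(M, W) := LinearMap.lsmul _ _ a
  obtain ⟨s₁, hs₁, hs₁'⟩ := exists_smul_mem_of_fg S (IsNoetherian.noetherian (LinearMap.ker La)) ⊥
    (fun m hm => by
      obtain ⟨c', hc', hcm⟩ := (WeakAss.germ_eq_zero_iff hW hxW m).mp (hareg _ (by
        rw [← WeakAss.germ_smul hxW, show a • m = 0 from hm, map_zero]))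
      exact ⟨c', hc', by simpa using hcm⟩)
  obtain ⟨s₂, hs₂, hs₂'⟩ := exists_smul_mem_of_fg S (IsNoetherian.noetherian p)
    ((LinearMap.range La).comap (LinearMap.toSpanSingleton Γ(X, W) Γ(M, W) z)) (fun a' ha' => by
      obtain ⟨ρ, hρ⟩ := h _ ha'
      obtain ⟨e, w, he, hw⟩ := WeakAss.exists_smul_eq_germ hW hxW ρ
      obtain ⟨c', hc', h'⟩ := (WeakAss.germ_eq_zero_iff hW hxW ((e * d) • a' • z - (c • a • w))).mp (by
        rw [map_sub, WeakAss.germ_smul hxW, WeakAss.germ_smul hxW, WeakAss.germ_smul hxW,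
          WeakAss.germ_smul hxW, ← hz, ← hw, hnum, map_mul, sub_eq_zero, smul_comm _ _ ν, hρ]
        simp only [← mul_smul]
        congr 1
        ring)
      refine ⟨c' * (e * d), S.mul_mem hc' (S.mul_mem he hd), c' • c • w, ?_⟩
      rw [smul_sub, sub_eq_zero] at h'
      show a • c' • c • w = ((c' * (e * d)) • a') • z
      rw [smul_eq_mul, mul_smul, mul_smul, h', smul_comm a c', smul_comm a c])
  let g := s₁ * s₂
  have hxg : x ∈ X.basicOpen g := notMem_primeAt_iff.mp (S.mul_mem hs₁ hs₂)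
  have hreg : RegPair M (res (X.basicOpen_le g) a) (res (X.basicOpen_le g) (1 : Γ(X, W))) :=
    regPair_basicOpen hW (fun m hm => by
      rw [show g = s₂ * s₁ from mul_comm _ _, mul_smul, show s₁ • m = 0 by simpa using hs₁' m hm, smul_zero])
      (fun m n hmn => ⟨g • n, by rw [one_smul] at hmn; rw [hmn, smul_comm]⟩)
  have hgerm : ∀ {y : X} (hy : y ∈ X.basicOpen g) {μ₁ μ₂ : M.presheaf.stalk y},
      X.presheaf.germ W y (X.basicOpen_le g hy) a • μ₁ = X.presheaf.germ W y (X.basicOpen_le g hy) a • μ₂ →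
      μ₁ = μ₂ := fun {y} hy {μ₁ μ₂} h => sub_eq_zero.mp
        (germ_regular_of_regPair (hW.basicOpen g) hreg.1 hy (by rw [germ_res, smul_sub, h, sub_self]))
  choose w hw using fun i : p => LinearMap.mem_range.mp (hs₂' i.1 i.2)
  let Wf : p → X.Opens := fun i => X.basicOpen (g * i.1)
  have hWfW : ∀ i, Wf i ≤ W := fun i => X.basicOpen_le _
  have hu : ∀ i : p, IsUnit (res (hWfW i) (g * i.1)) := fun i => RingedSpace.isUnit_res_basicOpen _ _
  let tf : ∀ i : p, Γ(M, Wf i) := fun i => ((↑(hu i).unit⁻¹ : Γ(X, Wf i)) * res (hWfW i) s₁) • mres M (hWfW i) (w i)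
  have htf : ∀ (i : p) (y : X) (hy : y ∈ Wf i), X.presheaf.germ W y (hWfW i hy) a •
      M.presheaf.germ (Wf i) y hy (tf i) = M.presheaf.germ W y (hWfW i hy) z := by
    intro i y hy
    rw [← germ_res (hWfW i) y hy a, ← germ_mres M (hWfW i) y hy z, ← WeakAss.germ_smul hy]
    congr 1
    have h1 : s₁ • (a • w i) = (g * i.1) • z := by
      rw [show a • w i = (s₂ * i.1) • z from hw i, ← mul_smul, ← mul_assoc]
    have h2 := congrArg (mres M (hWfW i)) h1
    rw [mres_smul, mres_smul, mres_smul] at h2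
    show res (hWfW i) a • ((↑(hu i).unit⁻¹ : Γ(X, Wf i)) * res (hWfW i) s₁) • mres M (hWfW i) (w i) = _
    rw [smul_comm, mul_smul, h2, smul_smul, (hu i).val_inv_mul, one_smul]
  let F : TopCat.Sheaf Ab X := ⟨M.presheaf, M.isSheaf⟩
  have hcompat : TopCat.Presheaf.IsCompatible F.1 Wf tf := by
    intro i j
    refine TopCat.Presheaf.section_ext F _ _ _ fun y hy => ?_
    show M.presheaf.germ _ y hy (mres M inf_le_left (tf i)) = M.presheaf.germ _ y hy (mres M inf_le_right (tf j))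
    rw [germ_mres, germ_mres]
    have hyg : y ∈ X.basicOpen g := ((X.basicOpen_mul g i.1).le hy.1).1
    exact hgerm hyg ((htf i y hy.1).trans (htf j y hy.2).symm)
  obtain ⟨T₀, hT, -⟩ := TopCat.Sheaf.existsUnique_gluing' F Wf (iSup Wf)
    (fun i => homOfLE (le_iSup Wf i)) le_rfl tf hcompat
  let T : Γ(M, iSup Wf) := T₀
  have hT' : ∀ i : p, mres M (le_iSup Wf i) T = tf i := hT
  clear_value T
  have hcov : X.basicOpen g ⊓ U ≤ iSup Wf := fun y hy => by
    have hyW : y ∈ W := X.basicOpen_le g hy.1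
    obtain ⟨a', ha', hay⟩ : ∃ a' ∈ p, a' ∉ primeAt y hyW := by
      by_contra hne
      push Not at hne
      exact hx (((AssPts.specializes_iff hW hxW hyW).mpr hne).mem_open U.2 hy.2)
    exact Opens.mem_iSup.mpr ⟨⟨a', ha'⟩,
      (X.basicOpen_mul g a').ge ⟨hy.1, notMem_primeAt_iff.mp hay⟩⟩
  obtain ⟨t, ht⟩ := (hb (X.basicOpen g)).2 (mres M hcov T)
  have heq : res (X.basicOpen_le g) a • t = mres M (X.basicOpen_le g) z := (hb (X.basicOpen g)).1 (by
    rw [mres_smul, ht]
    refine TopCat.Presheaf.section_ext F _ _ _ fun y hy => ?_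
    show M.presheaf.germ _ y hy _ = M.presheaf.germ _ y hy _
    rw [WeakAss.germ_smul hy, germ_res, germ_res, germ_mres, germ_mres, germ_mres]
    obtain ⟨i, hi⟩ := Opens.mem_iSup.mp (hcov hy)
    rw [← germ_mres M (le_iSup Wf i) y hi T, hT' i]
    exact htf i y hi)
  have hgt := congrArg (M.presheaf.germ (X.basicOpen g) x hxg) heq
  rw [WeakAss.germ_smul hxg, germ_res, germ_mres, ← hz, hnum, mul_comm, mul_smul] at hgt
  refine ⟨(↑huc.unit⁻¹ : X.presheaf.stalk x) • X.presheaf.germ W x hxW d •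
    M.presheaf.germ (X.basicOpen g) x hxg t, ?_⟩
  rw [smul_comm, hgt, smul_smul, huc.val_inv_mul, one_smul]

theorem depth_ge_two_of_bijective {x : X} (hx : x ∉ U) :
    (2 : ℕ∞) ≤ LocCoh.depth (X.presheaf.stalk x) (M.presheaf.stalk x) := by
  let A := X.presheaf.stalk x
  let N := M.presheaf.stalk x
  have : Module.Finite A N := QuasiFlat.finite_stalk M ⟨inferInstance, inferInstance⟩ x
  by_cases hne : IsLocalRing.maximalIdeal A • (⊤ : Submodule A N) = ⊤
  · unfold LocCoh.depth LocCoh.idealDepth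
    rw [if_pos hne]
    exact le_top
  have : Nontrivial N := by
    by_contra h
    rw [not_nontrivial_iff_subsingleton] at h
    exact hne (Subsingleton.elim _ _)
  obtain ⟨α, hαm, hα⟩ : ∃ α ∈ IsLocalRing.maximalIdeal A, IsSMulRegular N α := by
    by_contra h
    push Not at h
    obtain ⟨μ, hμ, hk⟩ := exists_killed_of_no_regular h
    exact hμ (eq_zero_of_killed hb hx μ hk)
  have : Nontrivial (QuotSMulTop α N) := Submodule.Quotient.nontrivial_iff.mpr fun h => hne
    (top_le_iff.mp fun y _ => by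
      have hy : y ∈ α • (⊤ : Submodule A N) := by rw [h]; exact Submodule.mem_top
      obtain ⟨c, -, rfl⟩ := (Submodule.mem_smul_pointwise_iff_exists _ _ _).mp hy
      exact Submodule.smul_mem_smul hαm Submodule.mem_top)
  obtain ⟨β, hβm, hβ⟩ : ∃ β ∈ IsLocalRing.maximalIdeal A, IsSMulRegular (QuotSMulTop α N) β := by
    by_contra h
    push Not at h
    obtain ⟨μ, hμ, hk⟩ := exists_killed_of_no_regular h
    obtain ⟨ν, rfl⟩ := Submodule.Quotient.mk_surjective _ μ
    refine hμ ((Submodule.Quotient.mk_eq_zero _).mpr ?_)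
    obtain ⟨ρ, rfl⟩ := exists_eq_smul_of_killed hb hx hα ν fun β hβ => by
      have := hk β hβ
      rw [← Submodule.Quotient.mk_smul, Submodule.Quotient.mk_eq_zero] at this
      obtain ⟨ρ, -, hρ⟩ := (Submodule.mem_smul_pointwise_iff_exists _ _ _).mp this
      exact ⟨ρ, hρ.symm⟩
    exact Submodule.smul_mem_pointwise_smul _ _ _ trivial
  refine (le_idealDepth_iff_exists _ hne 2).mpr ⟨[α, β], rfl, ?_, ?_⟩
  · intro r hr
    simp only [List.mem_cons, List.not_mem_nil, or_false] at hr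
    rcases hr with rfl | rfl <;> assumption
  · rw [isWeaklyRegular_cons_iff, isWeaklyRegular_cons_iff]
    exact ⟨hα, hβ, IsWeaklyRegular.nil _ _⟩

end GrothLib.Depth
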