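import Groth.Agent.Lib.Depth.HartogsModExt
import Groth.Agent.Lib.Depth.HartogsModConv
import Groth.Prelude.Def_Coh
import Mathlib.AlgebraicGeometry.Modules.Sheaf

/-!
The unit `M ⟶ j_* j^* M` across points of depth `≥ 2`.
-/

universe u

open CategoryTheory AlgebraicGeometry TopologicalSpace Opposite

namespace GrothLib.Depth

variable {X : Scheme.{u}}

theorem mres_bijective_of_eq {M : X.Modules} [M.IsQuasicoherent] [M.IsFiniteType] [IsLocallyNoetherian X]
    {U : X.Opens}
    (hU : ∀ x : X, x ∉ U → (2 : ℕ∞) ≤ LocCoh.depth (X.presheaf.stalk x) (M.presheaf.stalk x))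
    {V W : X.Opens} (h : W ≤ V) (hW : W = V ⊓ U) : Function.Bijective (mres M h) := by
  subst hW
  exact mres_bijective hU V

theorem image_preimage_eq_inf (U V : X.Opens) : U.ι ''ᵁ (U.ι ⁻¹ᵁ V) = V ⊓ U := by
  rw [Scheme.Hom.image_preimage_eq_opensRange_inf, Scheme.Opens.opensRange_ι, inf_comm]

theorem isIso_unit_app {M : X.Modules} [M.IsQuasicoherent] [M.IsFiniteType] [IsLocallyNoetherian X]
    {U : X.Opens}
    (hU : ∀ x : X, x ∉ U → (2 : ℕ∞) ≤ LocCoh.depth (X.presheaf.stalk x) (M.presheaf.stalk x)) :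
    IsIso ((Scheme.Modules.restrictAdjunction U.ι).unit.app M) := by
  rw [Scheme.Modules.Hom.isIso_iff_isIso_app]
  intro V
  rw [ConcreteCategory.isIso_iff_bijective, Scheme.Modules.restrictAdjunction_unit_app_app]
  exact mres_bijective_of_eq hU _ (image_preimage_eq_inf U V)

theorem restrict_map_bijective {E F : X.Modules} [E.IsQuasicoherent] [E.IsFiniteType]
    [IsLocallyNoetherian X] {U : X.Opens}
    (hU : ∀ x : X, x ∉ U → (2 : ℕ∞) ≤ LocCoh.depth (X.presheaf.stalk x) (E.presheaf.stalk x)) :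
    Function.Bijective (fun φ : F ⟶ E => (Scheme.Modules.restrictFunctor U.ι).map φ) := by
  let adj := Scheme.Modules.restrictAdjunction U.ι
  have := isIso_unit_app hU
  have h : (fun φ : F ⟶ E => (Scheme.Modules.restrictFunctor U.ι).map φ) =
      (adj.homEquiv F _).symm ∘ (fun φ : F ⟶ E => φ ≫ adj.unit.app E) := by
    funext φ
    apply (adj.homEquiv F _).injective
    rw [Function.comp_apply, Equiv.apply_symm_apply, Adjunction.homEquiv_unit]
    exact (adj.unit.naturality φ).symm
  rw [h]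
  refine (Equiv.bijective _).comp ⟨fun a b e => ?_, fun ψ => ⟨ψ ≫ inv (adj.unit.app E), by simp⟩⟩
  exact (cancel_mono _).mp e

/-- Restriction of sections of `j_*` to `U`. -/
theorem mres_push_bijective (U : X.Opens) (N : (U : Scheme.{u}).Modules) (V : X.Opens) :
    Function.Bijective (mres ((Coh.push U.ι).obj N) (inf_le_left : V ⊓ U ≤ V)) := by
  have e : U.ι ⁻¹ᵁ (V ⊓ U) = U.ι ⁻¹ᵁ V := by ext x; exact and_iff_left x.2
  have h : ∀ {A B : (U : Scheme.{u}).Opens} (hle : B ≤ A), B = A →
      Function.Bijective (N.presheaf.map (homOfLE hle).op) := by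
    intro A B hle hAB
    subst hAB
    rw [show (homOfLE hle).op = 𝟙 _ from Subsingleton.elim _ _, N.presheaf.map_id]
    exact Function.bijective_id
  exact h _ e

end GrothLib.Depth
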