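import Groth.Agent.Lib.LC.Vanish
import Groth.Agent.Lib.LC.Seq

/-! The largest submodule of smaller dimension. -/

universe u

namespace GrothLib.Depth

variable {R : Type u} [CommRing R] {M : Type u} [AddCommGroup M] [Module R M]

theorem supportDim_le_max_of_subset {A B : Type u} [AddCommGroup A] [Module R A] [AddCommGroup B]
    [Module R B] (h : Module.support R M ⊆ Module.support R A ∪ Module.support R B) :
    Module.supportDim R M ≤ max (Module.supportDim R A) (Module.supportDim R B) := by
  refine iSup_le fun l => ?_
  rcases h l.head.2 with hA | hB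
  · refine le_max_of_le_left ?_
    exact le_iSup_of_le (⟨l.length, fun i => ⟨(l i).1, Module.mem_support_mono (l.monotone (Fin.zero_le i)) hA⟩,
      fun i => l.step i⟩ : LTSeries (Module.support R A)) le_rfl
  · refine le_max_of_le_right ?_
    exact le_iSup_of_le (⟨l.length, fun i => ⟨(l i).1, Module.mem_support_mono (l.monotone (Fin.zero_le i)) hB⟩,
      fun i => l.step i⟩ : LTSeries (Module.support R B)) le_rfl

theorem supportDim_le_max_of_exact {A B : Type u} [AddCommGroup A] [Module R A] [AddCommGroup B]
    [Module R B] (f : A →ₗ[R] M) (g : M →ₗ[R] B) (hf : Function.Injective f)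
    (hg : Function.Surjective g) (h : Function.Exact f g) :
    Module.supportDim R M ≤ max (Module.supportDim R A) (Module.supportDim R B) :=
  supportDim_le_max_of_subset (Module.support_of_exact h hf hg).le

theorem supportDim_sup_lt {N N' : Submodule R M} {d : WithBot ℕ∞}
    (h : Module.supportDim R N < d) (h' : Module.supportDim R N' < d) :
    Module.supportDim R ↥(N ⊔ N') < d := by
  have hsurj : Function.Surjective ((Submodule.inclusion (le_sup_left : N ≤ N ⊔ N')).coprod
      (Submodule.inclusion (le_sup_right : N' ≤ N ⊔ N'))) := by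
    rintro ⟨m, hm⟩
    obtain ⟨a, ha, b, hb, rfl⟩ := Submodule.mem_sup.1 hm
    exact ⟨(⟨a, ha⟩, ⟨b, hb⟩), rfl⟩
  refine lt_of_le_of_lt ((Module.supportDim_le_of_surjective _ hsurj).trans
    (supportDim_le_max_of_exact (LinearMap.inl R N N') (LinearMap.snd R N N') LinearMap.inl_injective
      Prod.snd_surjective .inl_snd)) (max_lt h h')

theorem exists_largest_supportDim_lt [IsNoetherian R M] {d : WithBot ℕ∞} (hd : ⊥ < d) :
    ∃ N : Submodule R M, Module.supportDim R N < d ∧
      ∀ N' : Submodule R M, Module.supportDim R N' < d → N' ≤ N := by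
  obtain ⟨N, hN, hmax⟩ := set_has_maximal_iff_noetherian.mpr ‹IsNoetherian R M›
    {N : Submodule R M | Module.supportDim R N < d}
    ⟨⊥, by rw [Set.mem_setOf_eq, Module.supportDim_eq_bot_of_subsingleton]; exact hd⟩
  refine ⟨N, hN, fun N' h' => ?_⟩
  have : N = N ⊔ N' := eq_of_le_of_not_lt le_sup_left (hmax _ (supportDim_sup_lt hN h'))
  exact le_sup_right.trans this.ge

end GrothLib.Depth
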